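import Mathlib
import Groth.Agent.KrullAkizuki.Basic
import Groth.Agent.SemiLocalGlue.Main

/-! Normal form of torsion-free modules over a one-dimensional local domain with infinite residue field. -/

set_option autoImplicit false
universe u v w

open IsLocalRing

namespace Groth.Agent.TFCurvSG.Normal

section General

variable {O : Type u} [CommRing O] [IsLocalRing O] [Infinite (ResidueField O)]

/-- A module is not the union of finitely many proper submodules containing `m M`. -/
theorem exists_notMem {M : Type v} [AddCommGroup M] [Module O M] {ι : Type w} [Finite ι]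
    (P : ι → Submodule O M) (h1 : ∀ i, maximalIdeal O • (⊤ : Submodule O M) ≤ P i) (h2 : ∀ i, P i ≠ ⊤) :
    ∃ x : M, ∀ i, x ∉ P i := by
  letI : Field (O ⧸ maximalIdeal O) := Ideal.Quotient.field _
  haveI : Infinite (O ⧸ maximalIdeal O) := ‹Infinite (ResidueField O)›
  let q := (maximalIdeal O • (⊤ : Submodule O M)).mkQ
  have hmem : ∀ (i : ι) (x : M), q x ∈ (P i).map q → x ∈ P i := fun i x hx => by
    have : x ∈ ((P i).map q).comap q := hx
    rwa [Submodule.comap_map_eq, Submodule.ker_mkQ, sup_of_le_left (h1 i)] at this
  let Q : ι → Submodule (O ⧸ maximalIdeal O) (M ⧸ (maximalIdeal O • (⊤ : Submodule O M))) := fun i =>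
    { carrier := (P i).map q
      add_mem' := fun ha hb => add_mem ha hb
      zero_mem' := zero_mem _
      smul_mem' := fun c y hy => by
        obtain ⟨c, rfl⟩ := Ideal.Quotient.mk_surjective c
        exact ((P i).map q).smul_mem c hy }
  by_contra hcon
  push_neg at hcon
  have hU : (⋃ i, (Q i : Set (M ⧸ (maximalIdeal O • (⊤ : Submodule O M))))) = Set.univ := by
    refine Set.eq_univ_of_forall fun y => ?_
    obtain ⟨x, rfl⟩ := Submodule.mkQ_surjective _ y
    obtain ⟨i, hi⟩ := hcon x
    exact Set.mem_iUnion.2 ⟨i, Submodule.mem_map_of_mem hi⟩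
  obtain ⟨i, hi⟩ := Subspace.exists_eq_top_of_iUnion_eq_univ hU
  exact h2 i (eq_top_iff.2 fun x _ => hmem i x (show q x ∈ Q i by rw [hi]; trivial))

variable {B : Type v} [CommRing B] [Algebra O B] [Finite (MaximalSpectrum B)]
  (hloc : ∀ P : MaximalSpectrum B, maximalIdeal O ≤ P.asIdeal.comap (algebraMap O B))

include hloc in
/-- A generating lattice contains a basis. -/
theorem exists_spanning {n : ℕ} {M : Type w} [AddCommGroup M] [Module O M]
    (f : M →ₗ[O] (Fin n → B)) (hf : Submodule.span B (Set.range f) = ⊤) :
    ∃ x : Fin n → M, IsUnit (Matrix.of fun i j => f (x i) j) := by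
  classical
  have hred : ∀ j, j ≤ n → ∃ x : Fin j → M, ∀ P : MaximalSpectrum B,
      LinearIndependent (B ⧸ P.asIdeal) (fun i => fun l => Ideal.Quotient.mk P.asIdeal (f (x i) l)) := by
    intro j
    induction j with
    | zero => exact fun _ => ⟨Fin.elim0, fun P => linearIndependent_empty_type⟩
    | succ j ih =>
      intro hj
      obtain ⟨x, hx⟩ := ih (by omega)
      let S : ∀ P : MaximalSpectrum B, Submodule (B ⧸ P.asIdeal) (Fin n → B ⧸ P.asIdeal) := fun P =>
        Submodule.span _ (Set.range fun i => fun l => Ideal.Quotient.mk P.asIdeal (f (x i) l))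
      let red : ∀ P : MaximalSpectrum B, M →+ (Fin n → B ⧸ P.asIdeal) := fun P =>
        { toFun := fun m l => Ideal.Quotient.mk P.asIdeal (f m l)
          map_zero' := by funext l; simp
          map_add' := fun a b => by funext l; simp }
      have hsmul : ∀ (P : MaximalSpectrum B) (c : O) (m : M),
          red P (c • m) = (Ideal.Quotient.mk P.asIdeal (algebraMap O B c)) • red P m := fun P c m => by
        funext l
        simp [red, Algebra.smul_def]
      let Q : MaximalSpectrum B → Submodule O M := fun P =>
        { carrier := {m | red P m ∈ S P}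
          add_mem' := fun {a b} ha hb => by
            show red P (a + b) ∈ S P
            rw [map_add]; exact add_mem ha hb
          zero_mem' := by
            show red P 0 ∈ S P
            rw [map_zero]; exact zero_mem _
          smul_mem' := fun c m hm => by
            show red P (c • m) ∈ S P
            rw [hsmul]; exact (S P).smul_mem _ hm }
      have h1 : ∀ P, maximalIdeal O • (⊤ : Submodule O M) ≤ Q P := fun P =>
        Submodule.smul_le.2 fun c hc m _ => by
          show red P (c • m) ∈ S P
          rw [hsmul, Ideal.Quotient.eq_zero_iff_mem.2 (Ideal.mem_comap.1 (hloc P hc)), zero_smul]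
          exact zero_mem _
      have h2 : ∀ P, Q P ≠ ⊤ := fun P htop => by
        letI : Field (B ⧸ P.asIdeal) := Ideal.Quotient.field _
        have hall : ∀ v ∈ Submodule.span B (Set.range f),
            (fun l => Ideal.Quotient.mk P.asIdeal (v l)) ∈ S P := by
          intro v hv
          induction hv using Submodule.span_induction with
          | mem y hy =>
            obtain ⟨m, rfl⟩ := hy
            exact htop.ge (Submodule.mem_top (x := m))
          | zero => convert zero_mem (S P) using 1; funext l; simp
          | add a b _ _ ha hb => convert add_mem ha hb using 1; funext l; simp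
          | smul c a _ ha =>
            convert (S P).smul_mem (Ideal.Quotient.mk P.asIdeal c) ha using 1
            funext l; simp
        have hStop : S P = ⊤ := eq_top_iff.2 fun v _ => by
          choose w hw using fun l => Ideal.Quotient.mk_surjective (v l)
          have := hall w (hf ▸ Submodule.mem_top)
          rwa [show (fun l => Ideal.Quotient.mk P.asIdeal (w l)) = v from funext hw] at this
        have h3 := finrank_range_le_card (R := B ⧸ P.asIdeal)
          (fun i => fun l => Ideal.Quotient.mk P.asIdeal (f (x i) l))
        rw [Set.finrank, show Submodule.span (B ⧸ P.asIdeal) (Set.range fun i => fun l =>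
          Ideal.Quotient.mk P.asIdeal (f (x i) l)) = ⊤ from hStop, finrank_top, Module.finrank_fin_fun,
          Fintype.card_fin] at h3
        omega
      obtain ⟨m, hm⟩ := exists_notMem Q h1 h2
      refine ⟨Fin.snoc x m, fun P => ?_⟩
      letI : Field (B ⧸ P.asIdeal) := Ideal.Quotient.field _
      have heq : (fun i => fun l => Ideal.Quotient.mk P.asIdeal (f ((Fin.snoc x m : Fin (j+1) → M) i) l)) =
          Fin.snoc (fun i => fun l => Ideal.Quotient.mk P.asIdeal (f (x i) l)) (red P m) := by
        funext i
        refine Fin.lastCases ?_ (fun i => ?_) i <;> simp [red]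
      rw [heq, linearIndependent_finSnoc]
      exact ⟨hx P, hm P⟩
  obtain ⟨x, hx⟩ := hred n le_rfl
  refine ⟨x, (Matrix.isUnit_iff_isUnit_det _).2 ?_⟩
  by_contra hu
  obtain ⟨P, hP, hd⟩ := exists_max_ideal_of_mem_nonunits hu
  letI : Field (B ⧸ P) := Ideal.Quotient.field _
  have h := hx ⟨P, hP⟩
  have hrows : LinearIndependent (B ⧸ P)
      ((Matrix.of fun i j => f (x i) j).map (Ideal.Quotient.mk P)).row := h
  rw [Matrix.linearIndependent_rows_iff_isUnit, Matrix.isUnit_iff_isUnit_det, ← RingHom.mapMatrix_apply,
    ← RingHom.map_det, Ideal.Quotient.eq_zero_iff_mem.2 hd] at hrows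
  exact not_isUnit_zero hrows

end General

section Curve

variable {O : Type u} [CommRing O] [IsDomain O] [IsNoetherianRing O] [IsLocalRing O]
  [Infinite (ResidueField O)] {K : Type u} [Field K] [Algebra O K] [IsFractionRing O K]
  (hdim : ringKrullDim O = 1)

include hdim in
theorem isPID : IsPrincipalIdealRing (integralClosure O K) := by
  haveI := Groth.Agent.SemiLocalGlue.krullDimLE_one hdim
  haveI : Finite (MaximalSpectrum O) := inferInstance
  haveI := Groth.Agent.KrullAkizuki.isDedekindDomain_integralClosure O K
  haveI := Groth.Agent.KrullAkizuki.finite_maximalSpectrum_integralClosure O K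
  exact IsPrincipalIdealRing.of_finite_maximals
    ((Set.finite_range (MaximalSpectrum.asIdeal (R := integralClosure O K))).subset fun I hI => ⟨⟨I, hI⟩, rfl⟩)

include hdim in
theorem finite_max : Finite (MaximalSpectrum (integralClosure O K)) := by
  haveI := Groth.Agent.SemiLocalGlue.krullDimLE_one hdim
  exact Groth.Agent.KrullAkizuki.finite_maximalSpectrum_integralClosure O K

omit [IsNoetherianRing O] [Infinite (ResidueField O)] [IsFractionRing O K] in
theorem maximal_le (P : MaximalSpectrum (integralClosure O K)) :
    maximalIdeal O ≤ P.asIdeal.comap (algebraMap O (integralClosure O K)) := by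
  haveI := P.isMaximal
  exact (IsLocalRing.eq_maximalIdeal (Ideal.isMaximal_comap_of_isIntegral_of_isMaximal P.asIdeal)).ge

include hdim in
set_option maxHeartbeats 1600000 in
/-- Normal form of a torsion-free module. -/
theorem exists_normal_form (M : Type u) [AddCommGroup M] [Module O M] [Module.Finite O M]
    [Module.IsTorsionFree O M] (n : ℕ) (hn : Module.finrank K (TensorProduct O K M) = n) :
    ∃ φ : M →ₗ[O] (Fin n → K), Function.Injective φ ∧ (∀ i, Pi.single i 1 ∈ LinearMap.range φ) ∧
      ∀ m i, φ m i ∈ integralClosure O K := by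
  classical
  haveI := isPID (K := K) hdim
  haveI := finite_max (K := K) hdim
  haveI : IsFractionRing (integralClosure O K) K := integralClosure.isFractionRing_of_finite_extension K K
  haveI : Module.Finite K (TensorProduct O K M) := inferInstance
  let e : TensorProduct O K M ≃ₗ[K] (Fin n → K) := (Module.finBasisOfFinrankEq K _ hn).equivFun
  let ι : M →ₗ[O] (Fin n → K) := (e.toLinearMap.restrictScalars O) ∘ₗ TensorProduct.mk O K M 1
  have hι : Function.Injective ι := by
    refine e.injective.comp ((injective_iff_map_eq_zero _).2 fun m hm => ?_)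
    obtain ⟨c, hc⟩ := (IsLocalizedModule.eq_zero_iff (nonZeroDivisors O) (TensorProduct.mk O K M 1)).1 hm
    exact (smul_eq_zero.1 hc).resolve_left (nonZeroDivisors.coe_ne_zero c)
  have hspanK : Submodule.span K (Set.range ι) = ⊤ := by
    have h1 : Submodule.span K (Set.range (TensorProduct.mk O K M 1)) = ⊤ := by
      refine eq_top_iff.2 fun t _ => ?_
      induction t using TensorProduct.induction_on with
      | zero => exact zero_mem _
      | tmul c m =>
        rw [show c ⊗ₜ[O] m = c • TensorProduct.mk O K M 1 m by simp [TensorProduct.smul_tmul']]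
        exact Submodule.smul_mem _ _ (Submodule.subset_span ⟨m, rfl⟩)
      | add a b ha hb => exact add_mem (ha trivial) (hb trivial)
    show Submodule.span K (Set.range (e ∘ TensorProduct.mk O K M 1)) = ⊤
    rw [Set.range_comp, ← LinearEquiv.coe_coe, ← Submodule.map_span, h1, Submodule.map_top, LinearEquiv.range]
  let N : Submodule (integralClosure O K) (Fin n → K) := Submodule.span _ (Set.range ι)
  obtain ⟨t, ht⟩ := (inferInstance : Module.Finite O M).fg_top
  have hNfg : N = Submodule.span (integralClosure O K) (ι '' (t : Set M)) := by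
    refine le_antisymm (Submodule.span_le.2 ?_) (Submodule.span_mono (Set.image_subset_range _ _))
    rintro _ ⟨m, rfl⟩
    have hm : m ∈ Submodule.span O (t : Set M) := ht ▸ Submodule.mem_top
    have hm' := Submodule.apply_mem_span_image_of_mem_span ι hm
    exact Submodule.span_le_restrictScalars O (integralClosure O K) _ hm'
  haveI : Module.Finite (integralClosure O K) N :=
    Module.Finite.iff_fg.2 (hNfg ▸ Submodule.fg_span (t.finite_toSet.image ι))
  obtain ⟨J, b⟩ := Module.basisOfFiniteTypeTorsionFree' (R := integralClosure O K) (M := N)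
  let v : Fin J → (Fin n → K) := fun i => (b i : Fin n → K)
  have hvN : Submodule.span (integralClosure O K) (Set.range v) = N := by
    have := congrArg (Submodule.map N.subtype) b.span_eq
    rwa [Submodule.map_span, Submodule.map_top, Submodule.range_subtype, ← Set.range_comp] at this
  have hv : LinearIndependent K v :=
    (LinearIndependent.iff_fractionRing (integralClosure O K) K).1
      (b.linearIndependent.map' N.subtype N.ker_subtype)
  have hvspan : ⊤ ≤ Submodule.span K (Set.range v) := by
    rw [← hspanK, Submodule.span_le]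
    rintro _ ⟨m, rfl⟩
    have : ι m ∈ N := Submodule.subset_span ⟨m, rfl⟩
    rw [← hvN] at this
    exact Submodule.span_le_restrictScalars (integralClosure O K) K _ this
  have hJ : J = n := by
    have := Module.finrank_eq_card_basis (Module.Basis.mk hv hvspan)
    simpa using this.symm
  subst hJ
  let f : M →ₗ[O] (Fin J → integralClosure O K) :=
    (b.equivFun.toLinearMap.restrictScalars O) ∘ₗ
      (LinearMap.codRestrict (N.restrictScalars O) ι fun m => Submodule.subset_span ⟨m, rfl⟩)
  have hf : Submodule.span (integralClosure O K) (Set.range f) = ⊤ := by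
    refine eq_top_iff.2 fun y _ => ?_
    obtain ⟨z, rfl⟩ := b.equivFun.surjective y
    obtain ⟨z, hz⟩ := z
    induction hz using Submodule.span_induction with
    | mem w hw =>
      obtain ⟨m, rfl⟩ := hw
      exact Submodule.subset_span ⟨m, rfl⟩
    | zero => exact (map_zero b.equivFun).symm ▸ zero_mem _
    | add a c ha hc iha ihc =>
      rw [show (⟨a + c, add_mem ha hc⟩ : N) = ⟨a, ha⟩ + ⟨c, hc⟩ from rfl, map_add]
      exact add_mem (iha trivial) (ihc trivial)
    | smul r a ha iha =>
      rw [show (⟨r • a, N.smul_mem r ha⟩ : N) = r • (⟨a, ha⟩ : N) from rfl, map_smul]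
      exact Submodule.smul_mem _ _ (iha trivial)
  obtain ⟨x, hx⟩ := exists_spanning (fun P => maximal_le P) f hf
  let g := algebraMap (integralClosure O K) K
  let W : Matrix (Fin J) (Fin J) (integralClosure O K) := Matrix.of fun i j => f (x i) j
  obtain ⟨Wi, hWi, hWi'⟩ : ∃ Wi, W * Wi = 1 ∧ Wi * W = 1 := ⟨_, hx.unit.mul_inv, hx.unit.inv_mul⟩
  have hrep : ∀ m, (fun j => g (f m j)) = (Module.Basis.mk hv hvspan).equivFun (ι m) := fun m => by
    refine (Module.Basis.mk hv hvspan).equivFun.symm.injective ?_
    rw [LinearEquiv.symm_apply_apply, Module.Basis.equivFun_symm_apply]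
    simp only [Module.Basis.mk_apply, v]
    have h := b.sum_equivFun ⟨ι m, Submodule.subset_span ⟨m, rfl⟩⟩
    have h' := congrArg Subtype.val h
    simp only [Submodule.coe_sum, Submodule.coe_smul] at h'
    refine Eq.trans ?_ h'
    refine Finset.sum_congr rfl fun j _ => ?_
    rw [IsScalarTower.algebraMap_smul]
    rfl
  let φ : M →ₗ[O] (Fin J → K) :=
    ((Matrix.toLinearMapRight' (R := K) (Wi.map g)).restrictScalars O) ∘ₗ
      ((Module.Basis.mk hv hvspan).equivFun.toLinearMap.restrictScalars O) ∘ₗ ι
  have hφ : ∀ m, φ m = fun j => g (Matrix.vecMul (f m) Wi j) := fun m => by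
    show Matrix.vecMul ((Module.Basis.mk hv hvspan).equivFun (ι m)) (Wi.map g) = _
    rw [← hrep]
    funext j
    simp [Matrix.vecMul, dotProduct]
  refine ⟨φ, ?_, fun i => ⟨x i, ?_⟩, fun m j => ?_⟩
  · intro a c h
    rw [hφ, hφ] at h
    have h1 : Matrix.vecMul (f a) Wi = Matrix.vecMul (f c) Wi :=
      funext fun j => Subtype.val_injective (congrFun h j)
    have h2 := congrArg (fun y => Matrix.vecMul y W) h1
    simp only [Matrix.vecMul_vecMul, hWi', Matrix.vecMul_one] at h2
    exact hι (congrArg Subtype.val (b.equivFun.injective h2))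
  · rw [hφ]
    funext j
    have h1 : Matrix.vecMul (f (x i)) Wi j = (W * Wi) i j := rfl
    rw [h1, hWi, Matrix.one_apply, Pi.single_apply]
    by_cases hij : i = j
    · subst hij
      rw [if_pos rfl, if_pos rfl, map_one]
    · rw [if_neg hij, if_neg (Ne.symm hij), map_zero]
  · rw [hφ]
    exact (Matrix.vecMul (f m) Wi j).2

end Curve

end Groth.Agent.TFCurvSG.Normal
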