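import Mathlib.RingTheory.PowerSeries.Order
import Mathlib.RingTheory.PowerSeries.Basic
import Mathlib.RingTheory.Finiteness.Defs
import Mathlib.Data.Set.Card
import Mathlib.LinearAlgebra.Dimension.Constructions
import Mathlib.LinearAlgebra.Dimension.StrongRankCondition
import Mathlib.LinearAlgebra.FiniteDimensional.Basic
import Mathlib.Tactic.Linarith

/-!
# Closed subalgebras of `k[[t]]` and their orders
-/

set_option autoImplicit false
universe u

open PowerSeries

namespace Groth.Agent.TFCurvSG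

variable {k : Type u} [Field k] (A : Submodule k (PowerSeries k)) (S : Set ℕ)

/-- kill the coefficient in degree `n` using an element of `A` of order `n` -/
theorem exists_mem_kill (n : ℕ) (hn : ∃ a ∈ A, PowerSeries.order a = n) (h : PowerSeries k)
    (hh : (n : ℕ∞) ≤ order h) : ∃ a ∈ A, (n + 1 : ℕ∞) ≤ order (h - a) := by
  obtain ⟨a, ha, hao⟩ := hn
  rw [order_eq_nat] at hao
  refine ⟨(coeff n h / coeff n a) • a, A.smul_mem _ ha, ?_⟩
  refine le_of_eq_of_le (Nat.cast_succ n).symm (nat_le_order _ _ fun i hi => ?_)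
  rw [map_sub, map_smul, smul_eq_mul]
  rcases Nat.lt_succ_iff_lt_or_eq.1 hi with hi | rfl
  · rw [hao.2 i hi, coeff_of_lt_order i (lt_of_lt_of_le (by exact_mod_cast hi) hh), mul_zero, sub_zero]
  · rw [div_mul_cancel₀ _ hao.1, sub_self]

/-- a closed subspace with elements of every order `≥ c` contains everything of order `≥ c` -/
theorem mem_of_le_order
    (hcl : ∀ f : PowerSeries k, (∀ n : ℕ, ∃ g ∈ A, (n : ℕ∞) ≤ PowerSeries.order (f - g)) → f ∈ A)
    (c : ℕ) (hc : ∀ n : ℕ, c ≤ n → ∃ a ∈ A, PowerSeries.order a = n) (h : PowerSeries k)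
    (hh : (c : ℕ∞) ≤ order h) : h ∈ A := by
  have key : ∀ m : ℕ, ∃ g ∈ A, ((c + m : ℕ) : ℕ∞) ≤ order (h - g) := by
    intro m
    induction m with
    | zero => exact ⟨0, A.zero_mem, by simpa using hh⟩
    | succ m ih =>
      obtain ⟨g, hg, hgo⟩ := ih
      obtain ⟨a, ha, hao⟩ := exists_mem_kill A (c + m) (hc _ (Nat.le_add_right c m)) _ hgo
      refine ⟨g + a, A.add_mem hg ha, ?_⟩
      rw [← sub_sub]
      exact le_trans (by push_cast; rw [add_assoc]) hao
  refine hcl h fun n => ?_
  obtain ⟨g, hg, hgo⟩ := key n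
  exact ⟨g, hg, le_trans (by exact_mod_cast Nat.le_add_left n c) hgo⟩

/-- monomials in the gap degrees span a complement -/
theorem finrank_quot_eq
    (hcl : ∀ f : PowerSeries k, (∀ n : ℕ, ∃ g ∈ A, (n : ℕ∞) ≤ PowerSeries.order (f - g)) → f ∈ A)
    (hS : ∀ n : ℕ, n ∈ S ↔ ∃ f ∈ A, PowerSeries.order f = n) (hfin : Sᶜ.Finite) :
    Module.finrank k (PowerSeries k ⧸ A) = Sᶜ.ncard := by
  classical
  obtain ⟨c, hc⟩ : ∃ c, ∀ n, c ≤ n → n ∈ S := by
    obtain ⟨B, hB⟩ := hfin.bddAbove
    exact ⟨B + 1, fun n hn => by_contra fun h => absurd (hB h) (by omega)⟩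
  haveI := hfin.fintype
  let ψ : (↥Sᶜ → k) →ₗ[k] PowerSeries k ⧸ A :=
    A.mkQ ∘ₗ ∑ s : ↥Sᶜ, (monomial (s : ℕ)).comp (LinearMap.proj s)
  have hψ : ∀ v : ↥Sᶜ → k, ψ v = A.mkQ (∑ s : ↥Sᶜ, monomial (s : ℕ) (v s)) := fun v => by simp [ψ]
  have hcoef : ∀ (v : ↥Sᶜ → k) (j : ℕ), coeff j (∑ s : ↥Sᶜ, monomial (s : ℕ) (v s)) =
      if h : j ∈ Sᶜ then v ⟨j, h⟩ else 0 := by
    intro v j
    rw [map_sum]
    split_ifs with h
    · rw [Finset.sum_eq_single ⟨j, h⟩]
      · simp
      · intro s _ hs
        rw [coeff_monomial, if_neg fun e => hs (Subtype.ext e.symm)]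
      · simp
    · exact Finset.sum_eq_zero fun s _ => by rw [coeff_monomial, if_neg fun e => h (by rw [e]; exact s.2)]
  have hinj : Function.Injective ψ := by
    rw [← LinearMap.ker_eq_bot, LinearMap.ker_eq_bot']
    intro v hv
    rw [hψ, Submodule.mkQ_apply, Submodule.Quotient.mk_eq_zero] at hv
    by_contra hne
    have hne' : (∑ s : ↥Sᶜ, monomial (s : ℕ) (v s)) ≠ 0 := by
      intro h0
      apply hne
      funext s
      have := hcoef v s
      rw [h0, dif_pos s.2] at this
      simpa using this.symm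
    have hS' : (∑ s : ↥Sᶜ, monomial (s : ℕ) (v s)).order.toNat ∈ S :=
      (hS _).2 ⟨_, hv, (coe_toNat_order hne').symm⟩
    have := coeff_order hne'
    rw [hcoef, dif_neg (fun h => h hS')] at this
    exact this rfl
  have hsurj : Function.Surjective ψ := by
    rw [← LinearMap.range_eq_top, eq_top_iff]
    rintro x -
    obtain ⟨f, rfl⟩ := A.mkQ_surjective x
    have key : ∀ m : ℕ, ∀ n : ℕ, c ≤ n + m → ∀ h : PowerSeries k, (n : ℕ∞) ≤ order h →
        A.mkQ h ∈ LinearMap.range ψ := by
      intro m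
      induction m with
      | zero =>
        intro n hn h hh
        rw [show A.mkQ h = 0 from (Submodule.Quotient.mk_eq_zero _).2
          (mem_of_le_order A hcl c (fun j hj => (hS j).1 (hc j hj)) h
            (le_trans (by exact_mod_cast (by simpa using hn : c ≤ n)) hh))]
        exact Submodule.zero_mem _
      | succ m ih =>
        intro n hn h hh
        by_cases hnS : n ∈ S
        · obtain ⟨a, ha, hao⟩ := exists_mem_kill A n ((hS n).1 hnS) h hh
          have h2 := ih (n + 1) (by omega) (h - a) (le_trans (by push_cast; rfl) hao)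
          rwa [map_sub, show A.mkQ a = 0 from (Submodule.Quotient.mk_eq_zero _).2 ha, sub_zero] at h2
        · have h2 := ih (n + 1) (by omega) (h - monomial n (coeff n h)) (nat_le_order _ _ fun i hi => by
            rw [map_sub, coeff_monomial]
            split_ifs with e
            · rw [e, sub_self]
            · rw [coeff_of_lt_order i (lt_of_lt_of_le (by exact_mod_cast (by omega : i < n)) hh), sub_zero])
          have h3 : A.mkQ (monomial n (coeff n h)) ∈ LinearMap.range ψ := by
            refine ⟨Pi.single (⟨n, hnS⟩ : ↥Sᶜ) (coeff n h), ?_⟩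
            rw [hψ, Finset.sum_eq_single (⟨n, hnS⟩ : ↥Sᶜ)]
            · simp
            · intro s _ hs; rw [Pi.single_eq_of_ne hs, map_zero]
            · simp
          have := Submodule.add_mem _ h2 h3
          rwa [← map_add, sub_add_cancel] at this
    exact key c 0 (by omega) f (by simp)
  rw [← (LinearEquiv.ofBijective ψ ⟨hinj, hsurj⟩).finrank_eq, Module.finrank_pi,
    Set.ncard_eq_toFinset_card' Sᶜ, Set.toFinset_card]

end Groth.Agent.TFCurvSG
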