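import Groth.Agent.TFCurvSG.Approx
import Mathlib

/-!
# Value sets of duals with respect to a canonical ideal of a subalgebra of `k[[t]]`
-/

set_option autoImplicit false
set_option maxHeartbeats 800000
set_option synthInstance.maxHeartbeats 200000
universe u

open PowerSeries CategoryTheory

namespace Groth.Agent.TFCurvSG

variable {k : Type u} [Field k] (A : Subalgebra k (PowerSeries k))

/-- colength -/
noncomputable def qd (W : Submodule ↥A (PowerSeries k)) : ℕ :=
  Module.finrank k (PowerSeries k ⧸ W.restrictScalars k)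

/-- the ideal `X^n k[[X]]` as an `A`-module -/
noncomputable def xS (n : ℕ) : Submodule ↥A (PowerSeries k) :=
  (LinearMap.mulLeft ↥A (X ^ n : PowerSeries k)).range

theorem mem_xS {n : ℕ} {f : PowerSeries k} : f ∈ xS A n ↔ ∃ h, X ^ n * h = f := Iff.rfl

theorem mem_xS_iff_order {n : ℕ} {f : PowerSeries k} : f ∈ xS A n ↔ (n : ℕ∞) ≤ order f := by
  refine ⟨?_, fun h => ?_⟩
  · rintro ⟨g, rfl⟩
    show (n : ℕ∞) ≤ order (X ^ n * g)
    rw [order_mul, order_X_pow]; exact le_self_add
  · obtain ⟨g, hg⟩ : X ^ n ∣ f := X_pow_dvd_iff.2 fun m hm =>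
      coeff_of_lt_order m (lt_of_lt_of_le (by exact_mod_cast hm) h)
    exact ⟨g, hg.symm⟩

theorem closed_of_xS_le {W : Submodule ↥A (PowerSeries k)} {N : ℕ} (hW : xS A N ≤ W) :
    ∀ f : PowerSeries k, (∀ n : ℕ, ∃ g ∈ W.restrictScalars k, (n : ℕ∞) ≤ order (f - g)) →
      f ∈ W.restrictScalars k := by
  intro f hf
  obtain ⟨g, hg, hgo⟩ := hf N
  rw [← sub_add_cancel f g]
  exact W.add_mem (hW ((mem_xS_iff_order A).2 hgo)) hg

/-- value set -/
def vset (W : Submodule ↥A (PowerSeries k)) : Set ℕ := {n | ∃ f ∈ W, order f = n}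

theorem gaps_finite {W : Submodule ↥A (PowerSeries k)} {N : ℕ} (hW : xS A N ≤ W) : (vset A W)ᶜ.Finite :=
  (Set.finite_lt_nat N).subset fun n hn => by
    by_contra h
    exact hn ⟨X ^ n, hW ((mem_xS_iff_order A).2 (by
      rw [order_X_pow]; exact_mod_cast (not_lt.1 h))), order_X_pow n⟩

theorem qd_eq_gaps {W : Submodule ↥A (PowerSeries k)} {N : ℕ} (hW : xS A N ≤ W) :
    qd A W = (vset A W)ᶜ.ncard :=
  finrank_quot_eq (W.restrictScalars k) (vset A W) (closed_of_xS_le A hW) (fun _ => Iff.rfl)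
    (gaps_finite A hW)

theorem vset_xS (n : ℕ) : vset A (xS A n) = Set.Ici n := by
  ext m
  constructor
  · rintro ⟨f, hf, hfo⟩
    have := (mem_xS_iff_order A).1 hf
    rw [hfo] at this
    simpa using this
  · intro hm
    exact ⟨X ^ m, (mem_xS_iff_order A).2 (by rw [order_X_pow]; exact_mod_cast hm), order_X_pow m⟩

theorem qd_xS (n : ℕ) : qd A (xS A n) = n := by
  rw [qd_eq_gaps A le_rfl, vset_xS, Set.compl_Ici, show Set.Iio n = ↑(Finset.range n) by simp,
    Set.ncard_coe_finset, Finset.card_range]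

theorem finite_quot {W : Submodule ↥A (PowerSeries k)} {N : ℕ} (hW : xS A N ≤ W) :
    Module.Finite k (PowerSeries k ⧸ W.restrictScalars k) := by
  let φ : (Fin N → k) →ₗ[k] PowerSeries k ⧸ W.restrictScalars k :=
    (W.restrictScalars k).mkQ ∘ₗ ∑ i : Fin N, (monomial (i : ℕ)).comp (LinearMap.proj i)
  refine Module.Finite.of_surjective φ fun x => ?_
  obtain ⟨f, rfl⟩ := Submodule.mkQ_surjective _ x
  refine ⟨fun i => coeff (i : ℕ) f, ?_⟩
  simp only [φ, LinearMap.comp_apply, LinearMap.coe_sum, Finset.sum_apply, LinearMap.coe_proj,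
    Function.eval_apply, Submodule.mkQ_apply, Submodule.Quotient.eq, Submodule.restrictScalars_mem]
  refine hW ((mem_xS_iff_order A).2 (nat_le_order _ _ fun m hm => ?_))
  rw [map_sub, map_sum, Finset.sum_eq_single (⟨m, hm⟩ : Fin N)]
  · simp
  · intro i _ hi
    rw [coeff_monomial, if_neg fun e => hi (Fin.ext e.symm)]
  · simp

/-- colength drop, read off any linear map separating the two submodules -/
theorem qd_eq_add {T : Type u} [AddCommGroup T] [Module k T] {W₁ W₂ : Submodule ↥A (PowerSeries k)}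
    (h : W₁ ≤ W₂) {N : ℕ} (hW : xS A N ≤ W₁) (φ : PowerSeries k →ₗ[k] T)
    (hker : ∀ f ∈ W₂, φ f = 0 ↔ f ∈ W₁) :
    qd A W₁ = qd A W₂ + Module.finrank k ↥((W₂.restrictScalars k).map φ) := by
  haveI := finite_quot A hW
  set U₁ := W₁.restrictScalars k
  set U₂ := W₂.restrictScalars k
  have h' : U₁ ≤ U₂ := h
  have h1 := Submodule.finrank_quotient_add_finrank (U₂.map U₁.mkQ)
  rw [(Submodule.quotientQuotientEquivQuotient U₁ U₂ h').finrank_eq] at h1
  have e : Module.finrank k ↥(U₂.map U₁.mkQ) = Module.finrank k ↥(U₂.map φ) := by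
    have k1 : LinearMap.ker (U₁.mkQ.domRestrict U₂) = LinearMap.ker (φ.domRestrict U₂) := by
      ext ⟨f, hf⟩
      simp only [LinearMap.mem_ker, LinearMap.domRestrict_apply, Submodule.mkQ_apply,
        Submodule.Quotient.mk_eq_zero]
      exact (hker f hf).symm
    rw [← LinearMap.range_domRestrict, ← LinearMap.range_domRestrict,
      ← (LinearMap.quotKerEquivRange (U₁.mkQ.domRestrict U₂)).finrank_eq,
      ← (LinearMap.quotKerEquivRange (φ.domRestrict U₂)).finrank_eq, k1]
  rw [qd, qd, ← h1, e]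

theorem qd_top : qd A ⊤ = 0 := by
  rw [qd, Submodule.restrictScalars_top]
  exact Module.finrank_zero_of_subsingleton

theorem eq_of_qd_eq {W₁ W₂ : Submodule ↥A (PowerSeries k)} (h : W₁ ≤ W₂) {N : ℕ} (hW : xS A N ≤ W₁)
    (hq : qd A W₁ = qd A W₂) : W₁ = W₂ := by
  haveI := finite_quot A hW
  refine le_antisymm h fun f hf => ?_
  have h1 := qd_eq_add A h hW (W₁.restrictScalars k).mkQ (fun g _ => by simp)
  have h2 : Module.finrank k ↥((W₂.restrictScalars k).map (W₁.restrictScalars k).mkQ) = 0 := by omega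
  rw [Submodule.finrank_eq_zero] at h2
  have := (Submodule.eq_bot_iff _).1 h2 _ ⟨f, hf, rfl⟩
  simpa using this

theorem qd_shift (t : ℕ) {W : Submodule ↥A (PowerSeries k)} {N : ℕ} (hW : xS A N ≤ W) :
    qd A (W.map (LinearMap.mulLeft ↥A (X ^ t : PowerSeries k))) = t + qd A W := by
  let μ := LinearMap.mulLeft k (X ^ t : PowerSeries k)
  have hle : W.map (LinearMap.mulLeft ↥A (X ^ t : PowerSeries k)) ≤ xS A t := LinearMap.map_le_range
  have hN : xS A (t + N) ≤ W.map (LinearMap.mulLeft ↥A (X ^ t : PowerSeries k)) := by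
    rintro _ ⟨h, rfl⟩
    exact ⟨X ^ N * h, hW ⟨h, rfl⟩, by simp [pow_add, mul_assoc]⟩
  set U := (W.map (LinearMap.mulLeft ↥A (X ^ t : PowerSeries k))).restrictScalars k
  rw [qd_eq_add A hle hN U.mkQ (fun g _ => by simp [U]), qd_xS]
  congr 1
  have hr : ((xS A t).restrictScalars k).map U.mkQ = LinearMap.range (U.mkQ ∘ₗ μ) := by
    rw [LinearMap.range_comp]; rfl
  rw [hr, ← (LinearMap.quotKerEquivRange (U.mkQ ∘ₗ μ)).finrank_eq, qd]
  have hk : LinearMap.ker (U.mkQ ∘ₗ μ) = W.restrictScalars k := by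
    ext f
    simp only [LinearMap.mem_ker, LinearMap.comp_apply, Submodule.mkQ_apply, Submodule.Quotient.mk_eq_zero]
    constructor
    · rintro ⟨g, hg, hgf⟩
      rwa [mul_left_cancel₀ (pow_ne_zero t X_ne_zero) hgf] at hg
    · exact fun hf => ⟨f, hf, rfl⟩
  rw [hk]

section Dual

variable (ω : Submodule ↥A (PowerSeries k)) (c : ℕ)

/-- the dual `(X^c ω : W)` inside `k[[X]]` -/
noncomputable def dl (W : Submodule ↥A (PowerSeries k)) : Submodule ↥A (PowerSeries k) where
  carrier := {f | ∀ w ∈ W, f * w ∈ ω.map (LinearMap.mulLeft ↥A (X ^ c : PowerSeries k))}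
  add_mem' := fun {a b} ha hb w hw => by rw [add_mul]; exact Submodule.add_mem _ (ha w hw) (hb w hw)
  zero_mem' := fun w _ => by rw [zero_mul]; exact Submodule.zero_mem _
  smul_mem' := fun a f hf w hw => by
    rw [smul_mul_assoc]; exact Submodule.smul_mem _ a (hf w hw)

theorem mem_dl {W : Submodule ↥A (PowerSeries k)} {f : PowerSeries k} :
    f ∈ dl A ω c W ↔ ∀ w ∈ W, f * w ∈ ω.map (LinearMap.mulLeft ↥A (X ^ c : PowerSeries k)) := Iff.rfl

theorem xS_le_dl (hω : xS A c ≤ ω) (W : Submodule ↥A (PowerSeries k)) : xS A (c + c) ≤ dl A ω c W := by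
  rintro _ ⟨h, rfl⟩ w -
  exact ⟨X ^ c * (h * w), hω ⟨_, rfl⟩, by simp [pow_add, mul_assoc]⟩

theorem baer_quot (hc0 : c ≠ 0) (hA : ∀ h : PowerSeries k, X ^ c * h ∈ A)
    (hinj : HasInjectiveDimensionLT (ModuleCat.of ↥A ↥ω) 2) :
    Module.Baer ↥A (FractionRing (PowerSeries k) ⧸
      (ω.map (LinearMap.mulLeft ↥A (X ^ c : PowerSeries k))).map
        (IsScalarTower.toAlgHom ↥A (PowerSeries k) (FractionRing (PowerSeries k))).toLinearMap) := by
  let K := FractionRing (PowerSeries k)
  let ι : ↥ω →ₗ[↥A] K := (IsScalarTower.toAlgHom ↥A (PowerSeries k) K).toLinearMap ∘ₗ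
    (LinearMap.mulLeft ↥A (X ^ c : PowerSeries k)) ∘ₗ ω.subtype
  have hι : Function.Injective ι := fun a b h => Subtype.ext
    (mul_left_cancel₀ (pow_ne_zero c X_ne_zero) (IsFractionRing.injective (PowerSeries k) K h))
  set ω' := (ω.map (LinearMap.mulLeft ↥A (X ^ c : PowerSeries k))).map
        (IsScalarTower.toAlgHom ↥A (PowerSeries k) K).toLinearMap
  have hr : LinearMap.range ι = ω' := by
    simp only [ι, LinearMap.range_comp, Submodule.range_subtype, ω']
  have hK : Module.Baer ↥A K := by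
    intro I g
    by_cases hI : I = ⊥
    · subst hI
      exact ⟨0, fun x hx => by
        rw [Submodule.mem_bot] at hx; subst hx
        exact ((congrArg g (Subtype.ext rfl)).trans (map_zero g)).symm⟩
    obtain ⟨a, ha, ha0⟩ := Submodule.exists_mem_ne_zero_of_ne_bot hI
    have hinjA : Function.Injective (algebraMap ↥A K) := by
      rw [IsScalarTower.algebraMap_eq ↥A (PowerSeries k) K]
      exact (IsFractionRing.injective (PowerSeries k) K).comp Subtype.val_injective
    have hne : algebraMap ↥A K a ≠ 0 := (map_ne_zero_iff _ hinjA).2 ha0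
    refine ⟨LinearMap.toSpanSingleton ↥A K (g ⟨a, ha⟩ / algebraMap ↥A K a), fun x hx => ?_⟩
    rw [LinearMap.toSpanSingleton_apply, Algebra.smul_def, mul_div_assoc', div_eq_iff hne,
      ← Algebra.smul_def, ← map_smul, mul_comm, ← Algebra.smul_def, ← map_smul]
    exact congrArg g (Subtype.ext (mul_comm x a))
  let S := ShortComplex.mk (ModuleCat.ofHom (R := ↥A) (X := ↥ω) (Y := K) ι) (ModuleCat.ofHom (R := ↥A) (X := K) ω'.mkQ) (by
    ext x
    simp only [ModuleCat.hom_comp, ModuleCat.hom_ofHom, LinearMap.comp_apply, Submodule.mkQ_apply,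
      ModuleCat.hom_zero, LinearMap.zero_apply, Submodule.Quotient.mk_eq_zero]
    rw [← hr]; exact ⟨x, rfl⟩)
  have hS : S.ShortExact :=
    { exact := by
        rw [ShortComplex.moduleCat_exact_iff_range_eq_ker]
        show LinearMap.range ι = LinearMap.ker ω'.mkQ
        rw [Submodule.ker_mkQ, hr]
      mono_f := (ModuleCat.mono_iff_injective _).2 hι
      epi_g := (ModuleCat.epi_iff_surjective _).2 ω'.mkQ_surjective }
  haveI : Module.Injective ↥A K := Module.Baer.injective hK
  haveI : Injective S.X₂ := Module.injective_object_of_injective_module ↥A K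
  have h3 : HasInjectiveDimensionLT S.X₃ 1 :=
    hS.hasInjectiveDimensionLT_X₃ 1 inferInstance hinj
  haveI : Injective (ModuleCat.of ↥A (K ⧸ ω')) := injective_iff_hasInjectiveDimensionLT_one.2 h3
  exact Module.Baer.of_injective (Module.injective_module_of_injective_object ↥A (K ⧸ ω'))

theorem qd_dl_step (hc0 : c ≠ 0) (hA : ∀ h : PowerSeries k, X ^ c * h ∈ A) (hω : xS A c ≤ ω)
    (hinj : HasInjectiveDimensionLT (ModuleCat.of ↥A ↥ω) 2) {W : Submodule ↥A (PowerSeries k)}
    (hW : xS A c ≤ W) (n : PowerSeries k) (hn : n ∉ W)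
    (hmn : ∀ a : ↥A, constantCoeff (a : PowerSeries k) = 0 → a • n ∈ W) :
    qd A (dl A ω c (W ⊔ Submodule.span ↥A {n})) = qd A (dl A ω c W) +
      Module.finrank k ↥(({f : PowerSeries k | ∀ a : ↥A, constantCoeff (a : PowerSeries k) = 0 →
        a • f ∈ ω.map (LinearMap.mulLeft ↥A (X ^ c : PowerSeries k))}.image
          ((ω.map (LinearMap.mulLeft ↥A (X ^ c : PowerSeries k))).restrictScalars k).mkQ) |>
            Submodule.span k) := by
  classical
  set ω' := ω.map (LinearMap.mulLeft ↥A (X ^ c : PowerSeries k)) with hω'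
  let φ : PowerSeries k →ₗ[k] PowerSeries k ⧸ ω'.restrictScalars k :=
    (ω'.restrictScalars k).mkQ ∘ₗ LinearMap.mulRight k n
  have hle : dl A ω c (W ⊔ Submodule.span ↥A {n}) ≤ dl A ω c W := fun f hf w hw =>
    hf w (Submodule.mem_sup_left hw)
  rw [qd_eq_add A hle (xS_le_dl A ω c hω _) φ]
  · refine congrArg (fun U : Submodule k (PowerSeries k ⧸ ω'.restrictScalars k) => _ + Module.finrank k ↥U) ?_
    refine le_antisymm ?_ (Submodule.span_le.2 ?_)
    · rintro _ ⟨f, hf, rfl⟩
      refine Submodule.subset_span ⟨f * n, fun a ha => ?_, rfl⟩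
      rw [← mul_smul_comm]
      exact hf _ (hmn a ha)
    rintro _ ⟨g, hg, rfl⟩
    -- extend the map killing `W` and sending `n` to `g`
    let K := FractionRing (PowerSeries k)
    let j := (IsScalarTower.toAlgHom ↥A (PowerSeries k) K).toLinearMap
    have hj : Function.Injective j := IsFractionRing.injective (PowerSeries k) K
    let Q := K ⧸ ω'.map j
    let W₂ := W ⊔ Submodule.span ↥A {n}
    let μ : PowerSeries k →ₗ[↥A] ↥A :=
      { toFun := fun h => ⟨X ^ c * h, hA h⟩
        map_add' := fun x y => Subtype.ext (mul_add _ _ _)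
        map_smul' := fun a x => Subtype.ext (mul_left_comm (X ^ c) (a : PowerSeries k) x) }
    have hμ : Function.Injective μ := fun x y h =>
      mul_left_cancel₀ (pow_ne_zero c X_ne_zero) (congrArg Subtype.val h)
    have hrep : ∀ w : ↥W₂, ∃ a : ↥A, (w : PowerSeries k) - a • n ∈ W := fun w => by
      obtain ⟨u, hu, v, hv, huv⟩ := Submodule.mem_sup.1 w.2
      obtain ⟨a, rfl⟩ := Submodule.mem_span_singleton.1 hv
      exact ⟨a, by rw [← huv, add_sub_cancel_right]; exact hu⟩
    choose a ha using hrep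
    have hwell : ∀ b : ↥A, b • n ∈ W → b • g ∈ ω' := by
      intro b hb
      refine hg b ?_
      by_contra h0
      have hu : IsUnit (b : PowerSeries k) := isUnit_iff_constantCoeff.2 (isUnit_iff_ne_zero.2 h0)
      let C0 : ↥A := algebraMap k ↥A (constantCoeff (b : PowerSeries k))
      have h1 := hmn (b - C0) (by
        show constantCoeff ((b : PowerSeries k) - algebraMap k (PowerSeries k) _) = 0
        rw [map_sub, PowerSeries.algebraMap_apply, constantCoeff_C]; simp)
      have h2 : C0 • n ∈ W := by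
        have := W.sub_mem hb h1
        have e : b • n - (b - C0) • n = C0 • n := by
          show (b : PowerSeries k) * n - ((b : PowerSeries k) - C0) * n = (C0 : PowerSeries k) * n
          ring
        rwa [e] at this
      rw [show C0 • n = constantCoeff (b : PowerSeries k) • n from algebraMap_smul _ _ _] at h2
      have h3 := (W.restrictScalars k).smul_mem (constantCoeff (b : PowerSeries k))⁻¹ h2
      rw [inv_smul_smul₀ h0] at h3
      exact hn h3
    have hcls : ∀ (b b' : ↥A) (w : PowerSeries k), w - b • n ∈ W → w - b' • n ∈ W →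
        (ω'.map j).mkQ (j (b • g)) = (ω'.map j).mkQ (j (b' • g)) := by
      intro b b' w h1 h2
      rw [Submodule.mkQ_apply, Submodule.mkQ_apply, Submodule.Quotient.eq, ← map_sub]
      have eg : b • g - b' • g = (b - b') • g := (sub_mul (b : PowerSeries k) b' g).symm
      rw [eg]
      refine ⟨_, hwell _ ?_, rfl⟩
      have := W.sub_mem h2 h1
      rwa [sub_sub_sub_cancel_left, show b • n - b' • n = (b - b') • n from (sub_mul (b : PowerSeries k) b' n).symm] at this
    let ψ : ↥W₂ →ₗ[↥A] Q :=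
      { toFun := fun w => (ω'.map j).mkQ (j (a w • g))
        map_add' := fun x y => by
          rw [← map_add, ← map_add, ← add_smul]
          refine hcls _ _ _ (ha (x + y)) ?_
          rw [add_smul, Submodule.coe_add, add_sub_add_comm]
          exact W.add_mem (ha x) (ha y)
        map_smul' := fun b x => by
          rw [RingHom.id_apply, ← map_smul, ← map_smul, smul_smul]
          refine hcls _ _ _ (ha (b • x)) ?_
          rw [mul_smul, Submodule.coe_smul, ← smul_sub]
          exact W.smul_mem _ (ha x) }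
    let e := W₂.equivMapOfInjective μ hμ
    obtain ⟨G, hG⟩ := baer_quot A ω c hc0 hA hinj (W₂.map μ) (ψ ∘ₗ e.symm.toLinearMap)
    obtain ⟨h₀, hh₀⟩ := (ω'.map j).mkQ_surjective (G 1)
    have hval : ∀ w : ↥W₂, (ω'.map j).mkQ (j (X ^ c * (w : PowerSeries k)) * h₀) =
        (ω'.map j).mkQ (j (a w • g)) := by
      intro w
      have h1 := hG (μ w) ⟨w, w.2, rfl⟩
      rw [show (⟨μ w, ⟨w, w.2, rfl⟩⟩ : ↥(W₂.map μ)) = e w from rfl, LinearMap.comp_apply,
        LinearEquiv.coe_coe, LinearEquiv.symm_apply_apply] at h1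
      rw [show (μ w : ↥A) = μ w • (1 : ↥A) by simp, map_smul, ← hh₀, ← map_smul, Algebra.smul_def] at h1
      exact h1
    have hW₁ : ∀ w ∈ W, j (X ^ c * w) * h₀ ∈ ω'.map j := by
      intro w hw
      have h1 := hval ⟨w, Submodule.mem_sup_left hw⟩
      rw [hcls (a ⟨w, Submodule.mem_sup_left hw⟩) 0 w (ha ⟨w, Submodule.mem_sup_left hw⟩)
        (by simpa using hw)] at h1
      simpa [Submodule.Quotient.mk_eq_zero] using h1
    obtain ⟨z, hz, hz'⟩ := hW₁ (X ^ c) (hW ⟨1, mul_one _⟩)
    obtain ⟨y, hy, hyz⟩ := hz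
    obtain ⟨f, hf⟩ : ∃ f : PowerSeries k, j f = j (X ^ c) * h₀ := by
      refine ⟨y, mul_left_cancel₀ (fun h => pow_ne_zero c X_ne_zero (hj (h.trans (map_zero j).symm)) : j (X ^ c) ≠ 0) ?_⟩
      show algebraMap (PowerSeries k) K (X ^ c) * algebraMap (PowerSeries k) K y = _
      rw [← map_mul, ← mul_assoc]
      rw [← hyz] at hz'
      show _ = algebraMap (PowerSeries k) K (X ^ c) * algebraMap (PowerSeries k) K (X ^ c) * h₀
      rw [← map_mul]
      exact hz'
    have hjm : ∀ x, j (X ^ c * x) * h₀ = j (f * x) := fun x => by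
      show algebraMap (PowerSeries k) K (X ^ c * x) * h₀ = algebraMap (PowerSeries k) K (f * x)
      rw [map_mul, map_mul, show algebraMap (PowerSeries k) K f = algebraMap (PowerSeries k) K (X ^ c) * h₀ from hf]
      ring
    refine ⟨f, fun w hw => ?_, ?_⟩
    · obtain ⟨x, hx, hx'⟩ := hW₁ w hw
      rwa [← hj (hx'.trans (hjm w))]
    · show (ω'.restrictScalars k).mkQ (f * n) = (ω'.restrictScalars k).mkQ g
      have hn2 : n ∈ W₂ := Submodule.mem_sup_right (Submodule.mem_span_singleton_self n)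
      have h1 := hval ⟨n, hn2⟩
      rw [hcls (a ⟨n, hn2⟩) 1 n (ha ⟨n, hn2⟩) (by simp), one_smul, hjm] at h1
      rw [Submodule.mkQ_apply, Submodule.mkQ_apply, Submodule.Quotient.eq] at h1 ⊢
      rw [← map_sub] at h1
      obtain ⟨x, hx, hx'⟩ := h1
      rw [Submodule.restrictScalars_mem, ← hj hx']
      exact hx
  · intro f hf
    simp only [φ, LinearMap.comp_apply, Submodule.mkQ_apply, Submodule.Quotient.mk_eq_zero,
      LinearMap.mulRight_apply, Submodule.restrictScalars_mem]
    constructor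
    · intro h w hw
      obtain ⟨u, hu, v, hv, rfl⟩ := Submodule.mem_sup.1 hw
      obtain ⟨b, rfl⟩ := Submodule.mem_span_singleton.1 hv
      rw [mul_add, mul_smul_comm]
      exact ω'.add_mem (hf u hu) (ω'.smul_mem b h)
    · exact fun h => h n (Submodule.mem_sup_right (Submodule.mem_span_singleton_self n))

theorem qd_dl_add (hc0 : c ≠ 0) (hA : ∀ h : PowerSeries k, X ^ c * h ∈ A) (hω : xS A c ≤ ω)
    (hinj : HasInjectiveDimensionLT (ModuleCat.of ↥A ↥ω) 2) :
    ∃ r, ∀ W : Submodule ↥A (PowerSeries k), xS A c ≤ W →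
      qd A (dl A ω c W) + r * qd A W = qd A (dl A ω c ⊤) := by
  classical
  refine ⟨Module.finrank k ↥(({f : PowerSeries k | ∀ a : ↥A, constantCoeff (a : PowerSeries k) = 0 →
        a • f ∈ ω.map (LinearMap.mulLeft ↥A (X ^ c : PowerSeries k))}.image
          ((ω.map (LinearMap.mulLeft ↥A (X ^ c : PowerSeries k))).restrictScalars k).mkQ) |>
            Submodule.span k), fun W => ?_⟩
  induction hq : qd A W generalizing W with
  | zero =>
    intro hW
    rw [mul_zero, add_zero, eq_of_qd_eq A (le_top : W ≤ ⊤) hW (by rw [hq, qd_top])]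
  | succ q ih =>
    intro hW
    have hgap : (vset A W)ᶜ.Nonempty := by
      rw [← Set.ncard_pos (gaps_finite A hW), ← qd_eq_gaps A hW, hq]; omega
    obtain ⟨g, hg, hmax⟩ := (gaps_finite A hW).exists_maximal hgap
    have hgW : (X ^ g : PowerSeries k) ∉ W := fun h => hg ⟨_, h, order_X_pow g⟩
    have hbig : ∀ f : PowerSeries k, ((g + 1 : ℕ) : ℕ∞) ≤ order f → f ∈ W := fun f hf =>
      mem_of_le_order (W.restrictScalars k) (closed_of_xS_le A hW) (g + 1) (fun n hn => by
        by_contra hne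
        exact absurd (hmax (show n ∈ (vset A W)ᶜ from hne) (by omega)) (by omega)) f hf
    have hmn : ∀ a : ↥A, constantCoeff (a : PowerSeries k) = 0 → a • (X ^ g : PowerSeries k) ∈ W :=
      fun a ha => hbig _ (by
        show _ ≤ order ((a : PowerSeries k) * X ^ g)
        rw [order_mul, order_X_pow, Nat.cast_add, add_comm, Nat.cast_one]
        gcongr
        exact one_le_order_iff_constCoeff_eq_zero.2 ha)
    have hstep := qd_dl_step A ω c hc0 hA hω hinj hW _ hgW hmn
    have hle : W ≤ W ⊔ Submodule.span ↥A {(X ^ g : PowerSeries k)} := le_sup_left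
    have hdrop : qd A W = qd A (W ⊔ Submodule.span ↥A {(X ^ g : PowerSeries k)}) + 1 := by
      rw [qd_eq_add A hle hW (W.restrictScalars k).mkQ (fun f _ => by simp)]
      congr 1
      have hspan : ((W ⊔ Submodule.span ↥A {(X ^ g : PowerSeries k)}).restrictScalars k).map
          (W.restrictScalars k).mkQ = Submodule.span k {(W.restrictScalars k).mkQ (X ^ g)} := by
        refine le_antisymm ?_ ((Submodule.span_singleton_le_iff_mem _ _).2
          ⟨_, Submodule.mem_sup_right (Submodule.mem_span_singleton_self _), rfl⟩)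
        rintro _ ⟨f, hf, rfl⟩
        obtain ⟨u, hu, v, hv, rfl⟩ := Submodule.mem_sup.1 hf
        obtain ⟨b, rfl⟩ := Submodule.mem_span_singleton.1 hv
        refine Submodule.mem_span_singleton.2 ⟨constantCoeff (b : PowerSeries k), ?_⟩
        rw [← map_smul, Submodule.mkQ_apply, Submodule.mkQ_apply, Submodule.Quotient.eq,
          Submodule.restrictScalars_mem]
        have h1 := hmn (algebraMap k ↥A (constantCoeff (b : PowerSeries k)) - b) (by
          show constantCoeff (algebraMap k (PowerSeries k) _ - (b : PowerSeries k)) = 0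
          rw [map_sub, PowerSeries.algebraMap_apply, constantCoeff_C]; simp)
        rw [show ∀ x y : ↥A, (x - y) • (X ^ g : PowerSeries k) = x • (X ^ g : PowerSeries k) - y • (X ^ g : PowerSeries k) from fun x y => sub_mul (x : PowerSeries k) y _, algebraMap_smul] at h1
        rw [show constantCoeff (b : PowerSeries k) • (X ^ g : PowerSeries k) - (u + b • X ^ g) =
          (constantCoeff (b : PowerSeries k) • (X ^ g : PowerSeries k) - b • X ^ g) - u by abel]
        exact W.sub_mem h1 hu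
      rw [hspan, finrank_span_singleton]
      simpa using hgW
    have h2 := ih _ (by omega) (hW.trans hle)
    rw [hstep] at h2
    rw [← h2, mul_add, mul_one]
    ring

theorem valueSet_dual (hA : ∀ f : PowerSeries k, (c : ℕ∞) ≤ order f → f ∈ A) (hc0 : c ≠ 0)
    (hc1 : ¬ ∃ f ∈ A, order f = ((c - 1 : ℕ) : ℕ∞)) (hω1 : (1 : PowerSeries k) ∈ ω)
    (hinj : HasInjectiveDimensionLT (ModuleCat.of ↥A ↥ω) 2) (M : Submodule ↥A (PowerSeries k))
    (hM1 : (1 : PowerSeries k) ∈ M) (n : ℕ) :
    (∃ u : PowerSeries k, order u = n ∧ ∀ m ∈ M, u * m ∈ ω) ↔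
      (c ≤ n ∨ ¬ ∃ m ∈ M, order m = ((c - 1 - n : ℕ) : ℕ∞)) := by
  classical
  have hcA : ∀ h : PowerSeries k, X ^ c * h ∈ A := fun h => hA _ (by
    rw [order_mul, order_X_pow]; exact le_self_add)
  have hone : ∀ W : Submodule ↥A (PowerSeries k), (1 : PowerSeries k) ∈ W → xS A c ≤ W := fun W h1 => by
    rintro _ ⟨h, rfl⟩
    have := W.smul_mem ⟨_, hcA h⟩ h1
    rwa [show (⟨_, hcA h⟩ : ↥A) • (1 : PowerSeries k) = X ^ c * h from mul_one _] at this
  have hω := hone ω hω1
  set μ := LinearMap.mulLeft ↥A (X ^ c : PowerSeries k) with hμ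
  have hμi : Function.Injective μ := fun a b h => mul_left_cancel₀ (pow_ne_zero c X_ne_zero) h
  -- conductor of `ω`
  have hex : ∃ m, xS A m ≤ ω := ⟨c, hω⟩
  let c' := Nat.find hex
  have hc' : xS A c' ≤ ω := Nat.find_spec hex
  have hc'c : c' ≤ c := Nat.find_le hω
  have hcond : ∀ f : PowerSeries k, (∀ h, f * h ∈ ω) → f ∈ xS A c' := by
    intro f hf
    by_cases hf0 : f = 0
    · rw [hf0]; exact Submodule.zero_mem _
    refine (mem_xS_iff_order A).2 ?_
    rw [← coe_toNat_order hf0, Nat.cast_le]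
    refine Nat.find_le ?_
    rintro _ ⟨h, rfl⟩
    obtain ⟨q, hq⟩ : X ^ f.order.toNat ∣ f := X_pow_order_dvd
    have hqu : IsUnit q := by
      refine isUnit_iff_constantCoeff.2 (isUnit_iff_ne_zero.2 fun h0 => ?_)
      have h1 := congrArg order hq
      rw [order_mul, order_X_pow, ← coe_toNat_order hf0] at h1
      have h2 := one_le_order_iff_constCoeff_eq_zero.2 h0
      have hq0 : q ≠ 0 := fun e => hf0 (by rw [hq, e, mul_zero])
      rw [ENat.toNat_natCast, ← coe_toNat_order hq0] at h1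
      rw [← coe_toNat_order hq0] at h2
      norm_cast at h1 h2
      omega
    obtain ⟨v, hv⟩ := hqu.exists_right_inv
    have := hf (v * h)
    show X ^ f.order.toNat * h ∈ ω
    rwa [hq, mul_assoc, ← mul_assoc q, hv, one_mul] at this
  have hdtop : dl A ω c ⊤ = xS A (c + c') := by
    refine le_antisymm (fun f hf => ?_) ?_
    · obtain ⟨f₀, hf₀, hf₀'⟩ := hf 1 trivial
      change X ^ c * f₀ = f * 1 at hf₀'
      obtain ⟨h, hh⟩ := hcond f₀ (fun h => by
        obtain ⟨y, hy, hy'⟩ := hf h trivial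
        change X ^ c * y = f * h at hy'
        rw [mul_one] at hf₀'
        rw [← hf₀', mul_assoc] at hy'
        rwa [← mul_left_cancel₀ (pow_ne_zero c X_ne_zero) hy'])
      refine ⟨h, ?_⟩
      show X ^ (c + c') * h = f
      change X ^ c' * h = f₀ at hh
      rw [pow_add, mul_assoc, hh, hf₀', mul_one]
    · rintro _ ⟨h, rfl⟩ w -
      exact ⟨X ^ c' * (h * w), hc' ⟨_, rfl⟩, by simp [pow_add, mul_assoc]⟩
  have hdxc : dl A ω c (xS A c) = xS A c' := by
    refine le_antisymm (fun f hf => hcond f fun h => ?_) ?_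
    · obtain ⟨y, hy, hy'⟩ := hf (X ^ c * h) ⟨h, rfl⟩
      change X ^ c * y = f * (X ^ c * h) at hy'
      rw [mul_left_comm f] at hy'
      rwa [← mul_left_cancel₀ (pow_ne_zero c X_ne_zero) hy']
    · rintro _ ⟨h, rfl⟩ _ ⟨h', rfl⟩
      exact ⟨X ^ c' * (h * h'), hc' ⟨_, rfl⟩, by simp [mul_assoc, mul_left_comm]⟩
  obtain ⟨r, hr⟩ := qd_dl_add A ω c hc0 hcA hω hinj
  have hr1 : r = 1 := by
    have := hr _ le_rfl
    rw [hdxc, hdtop, qd_xS, qd_xS, qd_xS] at this
    exact Nat.eq_of_mul_eq_mul_right (Nat.pos_of_ne_zero hc0) (by omega : r * c = 1 * c)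
  have hdual : ∀ W, (1 : PowerSeries k) ∈ W → qd A (dl A ω c W) + qd A W = c + c' := fun W h1 => by
    have := hr W (hone W h1)
    rwa [hr1, one_mul, hdtop, qd_xS] at this
  -- `(ω : M)` for a module containing one
  let E : Submodule ↥A (PowerSeries k) → Submodule ↥A (PowerSeries k) := fun W =>
    { carrier := {u | ∀ m ∈ W, u * m ∈ ω}
      add_mem' := fun {a b} ha hb m hm => by rw [add_mul]; exact ω.add_mem (ha m hm) (hb m hm)
      zero_mem' := fun m _ => by rw [zero_mul]; exact ω.zero_mem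
      smul_mem' := fun a u hu m hm => by rw [smul_mul_assoc]; exact ω.smul_mem a (hu m hm) }
  have hE : ∀ W, (1 : PowerSeries k) ∈ W → dl A ω c W = (E W).map μ := fun W h1 => by
    refine le_antisymm (fun f hf => ?_) ?_
    · obtain ⟨y, hy, hy'⟩ := hf 1 h1
      change X ^ c * y = f * 1 at hy'
      rw [mul_one] at hy'
      refine ⟨y, fun m hm => ?_, hy'⟩
      obtain ⟨z, hz, hz'⟩ := hf m hm
      change X ^ c * z = f * m at hz'
      rw [← hy', mul_assoc] at hz'
      rwa [← mul_left_cancel₀ (pow_ne_zero c X_ne_zero) hz']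
    · rintro _ ⟨u, hu, rfl⟩ m hm
      exact ⟨u * m, hu m hm, by simp [μ, mul_assoc]⟩
  have hEx : ∀ W, xS A c ≤ E W := fun W => by
    rintro _ ⟨h, rfl⟩ m -
    exact hω ⟨h * m, by simp [mul_assoc]⟩
  have hEq : ∀ W, (1 : PowerSeries k) ∈ W → qd A (E W) + qd A W = c' := fun W h1 => by
    have := hdual W h1
    rw [hE W h1, qd_shift A c (hEx W)] at this
    omega
  -- the conductor of `ω` is `c`
  let A₁ : Submodule ↥A (PowerSeries k) := Submodule.span ↥A {1}
  have h1A : (1 : PowerSeries k) ∈ A₁ := Submodule.mem_span_singleton_self 1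
  have hA₁ : ∀ {f}, f ∈ A₁ ↔ f ∈ A := fun {f} => by
    rw [Submodule.mem_span_singleton]
    exact ⟨fun ⟨a, ha⟩ => by rw [← ha, show a • (1 : PowerSeries k) = a from mul_one _]; exact a.2,
      fun h => ⟨⟨f, h⟩, mul_one f⟩⟩
  have hEA : E A₁ = ω := by
    refine le_antisymm (fun u hu => by simpa using hu 1 h1A) (fun u hu m hm => ?_)
    rw [mul_comm]
    exact ω.smul_mem ⟨m, hA₁.1 hm⟩ hu
  have hEω : A₁ = E ω := by
    refine eq_of_qd_eq A ?_ (hone A₁ h1A) ?_
    · exact fun u hu m hm => ω.smul_mem ⟨u, hA₁.1 hu⟩ hm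
    · have h1 := hEq ω hω1
      have h2 := hEq A₁ h1A
      rw [hEA] at h2
      omega
  have hcc : c' = c := by
    refine le_antisymm hc'c (not_lt.1 fun hlt => hc1 ⟨X ^ (c - 1), hA₁.1 ?_, order_X_pow _⟩)
    rw [hEω]
    intro m _
    refine hc' ((mem_xS_iff_order A).2 ?_)
    rw [order_mul, order_X_pow]
    exact le_add_right (by exact_mod_cast (by omega : c' ≤ c - 1))
  have hno : c - 1 ∉ vset A ω := by
    intro h
    have : xS A (c - 1) ≤ ω := fun f hf =>
      mem_of_le_order (ω.restrictScalars k) (closed_of_xS_le A hω) (c - 1) (fun m hm => by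
        rcases eq_or_lt_of_le hm with rfl | hm
        · exact h
        · exact ⟨X ^ m, hω ((mem_xS_iff_order A).2 (by rw [order_X_pow]; exact_mod_cast (by omega : c ≤ m))), order_X_pow m⟩)
        f ((mem_xS_iff_order A).1 hf)
    have := Nat.find_le (h := hex) this
    omega
  -- compare gaps
  have hMx := hone M hM1
  let T : Set ℕ := {j | j < c ∧ c - 1 - j ∈ vset A M}
  have hT : T ⊆ (vset A (E M))ᶜ := by
    rintro j ⟨hj, m, hm, hmo⟩ ⟨u, hu, huo⟩
    exact hno ⟨u * m, hu m hm, by rw [order_mul, huo, hmo, ← Nat.cast_add]; congr 1; omega⟩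
  have hTc : T.ncard + (vset A M)ᶜ.ncard = c := by
    have h1 : T.ncard = ((Finset.range c).filter (· ∈ vset A M)).card := by
      rw [← Set.ncard_coe_finset]
      refine Set.ncard_congr (fun j _ => c - 1 - j) ?_ ?_ ?_
      · rintro j ⟨hj, hv⟩; simp [hv]; omega
      · rintro a b ⟨ha, -⟩ ⟨hb, -⟩ h; omega
      · intro i hi
        simp only [Finset.coe_filter, Finset.mem_range, Set.mem_setOf_eq] at hi
        refine ⟨c - 1 - i, ⟨by omega, ?_⟩, by omega⟩
        rw [show c - 1 - (c - 1 - i) = i by omega]; exact hi.2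
    have h2 : (vset A M)ᶜ.ncard = ((Finset.range c).filter (· ∉ vset A M)).card := by
      rw [← Set.ncard_coe_finset]
      congr 1
      ext i
      simp only [Set.mem_compl_iff, Finset.coe_filter, Finset.mem_range, Set.mem_setOf_eq]
      refine ⟨fun h => ⟨not_le.1 fun hle => h ⟨X ^ i, hMx ((mem_xS_iff_order A).2 ?_), order_X_pow i⟩, h⟩,
        fun h => h.2⟩
      rw [order_X_pow]; exact_mod_cast hle
    rw [h1, h2, Finset.card_filter_add_card_filter_not, Finset.card_range]
  have hEMq := hEq M hM1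
  rw [qd_eq_gaps A hMx, qd_eq_gaps A (hEx M), hcc] at hEMq
  have hTeq : T = (vset A (E M))ᶜ := Set.eq_of_subset_of_ncard_le hT (by omega) (gaps_finite A (hEx M))
  have hkey : (∃ u : PowerSeries k, order u = n ∧ ∀ m ∈ M, u * m ∈ ω) ↔ n ∉ T := by
    rw [hTeq, Set.notMem_compl_iff]
    exact ⟨fun ⟨u, h1, h2⟩ => ⟨u, h2, h1⟩, fun ⟨u, h1, h2⟩ => ⟨u, h2, h1⟩⟩
  rw [hkey]
  show ¬ (n < c ∧ _) ↔ _
  rw [not_and_or, not_lt]
  rfl

end Dual

end Groth.Agent.TFCurvSG
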