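import Groth.Agent.TFCurvSG.ExtLen
import Mathlib

/-!
# `Ext¹` between monomial modules over monomial subalgebras of `k[[t]]`
-/

set_option autoImplicit false
set_option maxHeartbeats 1000000
set_option synthInstance.maxHeartbeats 200000
universe u

open PowerSeries

namespace Groth.Agent.TFCurvSG

variable {k : Type u} [Field k] (A : Subalgebra k (PowerSeries k))

/-- the constant coefficient on `A` -/
noncomputable def eps : ↥A →ₐ[k] k where
  toFun a := constantCoeff (a : PowerSeries k)
  map_one' := by simp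
  map_mul' a b := by simp
  map_zero' := by simp
  map_add' a b := by simp
  commutes' c := by simp [PowerSeries.algebraMap_apply]

/-- a monomial algebra is local -/
theorem isUnit_of_mono (P : AddSubmonoid ℕ) (hmono : ∀ f : PowerSeries k, f ∈ A ↔ ∀ n : ℕ, coeff n f ≠ 0 → n ∈ P)
    (a : ↥A) (ha : eps A a ≠ 0) : IsUnit a := by
  classical
  have hu : IsUnit (a : PowerSeries k) := isUnit_iff_constantCoeff.2 (isUnit_iff_ne_zero.2 ha)
  obtain ⟨b, hb⟩ := hu.exists_right_inv
  have hbA : b ∈ A := by
    refine (hmono b).2 fun m => ?_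
    induction m using Nat.strong_induction_on with
    | h m ih =>
      intro hm
      rcases Nat.eq_zero_or_pos m with rfl | hpos
      · exact P.zero_mem
      have h1 := congrArg (coeff m) hb
      rw [coeff_one, if_neg hpos.ne', coeff_mul,
        Finset.sum_eq_add_sum_sdiff_singleton_of_mem (i := (0, m)) (by simp)] at h1
      have h0 : coeff 0 (a : PowerSeries k) * coeff m b ≠ 0 := mul_ne_zero (by
        rw [coeff_zero_eq_constantCoeff_apply]; exact ha) hm
      by_contra hP
      refine h0 ?_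
      rw [Finset.sum_eq_zero fun p hp => ?_, add_zero] at h1
      · exact h1
      obtain ⟨hp, hp0⟩ := Finset.mem_sdiff.1 hp
      rw [Finset.HasAntidiagonal.mem_antidiagonal] at hp
      rw [Finset.mem_singleton] at hp0
      by_contra hne
      obtain ⟨h2, h3⟩ := ne_zero_and_ne_zero_of_mul hne
      have hlt : p.2 < m := by
        rcases Nat.eq_zero_or_pos p.1 with h | h
        · exact absurd (Prod.ext h (by omega)) hp0
        · omega
      exact hP (hp ▸ P.add_mem ((hmono _).1 a.2 _ h2) (ih _ hlt h3))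
  exact IsUnit.of_mul_eq_one ⟨b, hbA⟩ (Subtype.ext hb)

theorem smul_eq_mul' (a : ↥A) (f : PowerSeries k) : a • f = (a : PowerSeries k) * f := rfl

section TwoGen

variable (P : AddSubmonoid ℕ) (hmono : ∀ f : PowerSeries k, f ∈ A ↔ ∀ n : ℕ, coeff n f ≠ 0 → n ∈ P)

include hmono in
theorem X_pow_mem {m : ℕ} (hm : m ∈ P) : (X ^ m : PowerSeries k) ∈ A :=
  (hmono _).2 fun n hn => by
    rw [coeff_X_pow] at hn
    split_ifs at hn with h
    · exact h ▸ hm
    · exact absurd rfl hn

/-- exponents of `A + A t^e` -/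
def vexp (e m : ℕ) : Prop := m ∈ P ∨ (e ≤ m ∧ m - e ∈ P)

include hmono in
theorem mem_pair_iff (e : ℕ) (f : PowerSeries k) :
    f ∈ Submodule.span ↥A ({1, (X : PowerSeries k) ^ e} : Set (PowerSeries k)) ↔
      ∀ m, coeff m f ≠ 0 → vexp P e m := by
  classical
  rw [Submodule.mem_span_pair]
  constructor
  · rintro ⟨a, b, rfl⟩ m hm
    rw [smul_eq_mul', smul_eq_mul', mul_one, map_add, coeff_mul_X_pow'] at hm
    by_cases ha : coeff m (a : PowerSeries k) = 0
    · rw [ha, zero_add] at hm
      split_ifs at hm with h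
      · exact Or.inr ⟨h, (hmono _).1 b.2 _ hm⟩
      · exact absurd rfl hm
    · exact Or.inl ((hmono _).1 a.2 _ ha)
  · intro hf
    let a : PowerSeries k := mk fun m => if m ∈ P then coeff m f else 0
    let b : PowerSeries k := mk fun m => if m ∈ P ∧ m + e ∉ P then coeff (m + e) f else 0
    have ha : a ∈ A := (hmono _).2 fun m hm => by
      simp only [a, coeff_mk] at hm; split_ifs at hm with h
      · exact h
      · exact absurd rfl hm
    have hb : b ∈ A := (hmono _).2 fun m hm => by
      simp only [b, coeff_mk] at hm; split_ifs at hm with h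
      · exact h.1
      · exact absurd rfl hm
    refine ⟨⟨a, ha⟩, ⟨b, hb⟩, ?_⟩
    ext m
    rw [smul_eq_mul', smul_eq_mul', mul_one, map_add, coeff_mul_X_pow']
    simp only [a, b, coeff_mk]
    by_cases hm : m ∈ P
    · rw [if_pos hm]
      by_cases he : e ≤ m
      · rw [if_pos he, if_neg (fun h => h.2 (by rwa [Nat.sub_add_cancel he])), add_zero]
      · rw [if_neg he, add_zero]
    · rw [if_neg hm, zero_add]
      by_cases hc : coeff m f = 0
      · rw [hc]
        split_ifs with he h
        · rw [Nat.sub_add_cancel he]; exact hc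
        · rfl
        · rfl
      · obtain h | ⟨he, h⟩ := hf m hc
        · exact absurd h hm
        · rw [if_pos he, if_pos ⟨h, by rwa [Nat.sub_add_cancel he]⟩, Nat.sub_add_cancel he]

include hmono in
theorem length_ext_pair (R : ℕ) (hR : ∀ m, R ≤ m → m ∈ P) (d e : ℕ) (D : Finset ℕ)
    (hD : ∀ m, m ∈ D ↔ ((∀ s, s ∈ P → s + d ∈ P → R ≤ m + s ∧ vexp P e (m + s - R)) ∧
      ¬ (R ≤ m ∧ (vexp P e (m - R) ∨ (d ≤ m - R ∧ vexp P e (m - R - d)))))) :
    Module.length ↥A (CategoryTheory.Abelian.Ext
      (ModuleCat.of ↥A ↥(Submodule.span ↥A ({1, (X : PowerSeries k) ^ d} : Set (PowerSeries k))))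
      (ModuleCat.of ↥A ↥(Submodule.span ↥A ({1, (X : PowerSeries k) ^ e} : Set (PowerSeries k)))) 1) =
      (D.card : ℕ∞) := by
  classical
  set M := Submodule.span ↥A ({1, (X : PowerSeries k) ^ d} : Set (PowerSeries k)) with hM
  set N := Submodule.span ↥A ({1, (X : PowerSeries k) ^ e} : Set (PowerSeries k)) with hN
  let π : (↥A × ↥A) →ₗ[↥A] ↥M :=
    (LinearMap.toSpanSingleton ↥A ↥M ⟨1, Submodule.subset_span (Set.mem_insert _ _)⟩).coprod
      (LinearMap.toSpanSingleton ↥A ↥M ⟨X ^ d, Submodule.subset_span (Set.mem_insert_of_mem _ rfl)⟩)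
  have hπv : ∀ x, (π x : PowerSeries k) = (x.1 : PowerSeries k) + (x.2 : PowerSeries k) * X ^ d := fun x => by
    simp [π, smul_eq_mul']
  have hπ : Function.Surjective π := fun y => by
    obtain ⟨a, b, hab⟩ := Submodule.mem_span_pair.1 y.2
    exact ⟨(a, b), Subtype.ext (by rw [hπv, ← hab, smul_eq_mul', smul_eq_mul', mul_one])⟩
  let K := LinearMap.ker π
  have hK : ∀ x : ↥K, ((x : ↥A × ↥A).1 : PowerSeries k) = -((x : ↥A × ↥A).2 : PowerSeries k) * X ^ d := fun x => by
    have h := congrArg (fun z : ↥M => (z : PowerSeries k)) (show π x = 0 from x.2)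
    simp only [hπv, ZeroMemClass.coe_zero] at h
    linear_combination h
  let cR : ↥A := ⟨X ^ R, X_pow_mem A P hmono (hR R le_rfl)⟩
  let κ : ↥K := ⟨(⟨-(X ^ R * X ^ d), A.neg_mem (by rw [← pow_add]; exact X_pow_mem A P hmono (hR _ (Nat.le_add_right R d)))⟩, cR),
    Subtype.ext (by rw [hπv]; simp [cR])⟩
  have hcomm : ∀ x : ↥K, cR • x = (x : ↥A × ↥A).2 • κ := fun x => by
    apply Subtype.ext
    refine Prod.ext (Subtype.ext ?_) (Subtype.ext ?_)
    · show X ^ R * ((x : ↥A × ↥A).1 : PowerSeries k) = ((x : ↥A × ↥A).2 : PowerSeries k) * -(X ^ R * X ^ d)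
      rw [hK]; ring
    · show X ^ R * ((x : ↥A × ↥A).2 : PowerSeries k) = ((x : ↥A × ↥A).2 : PowerSeries k) * X ^ R
      ring
  have hval : ∀ (f : ↥K →ₗ[↥A] ↥N) (x : ↥K),
      X ^ R * (f x : PowerSeries k) = ((x : ↥A × ↥A).2 : PowerSeries k) * (f κ : PowerSeries k) := fun f x => by
    have h := congrArg (fun z : ↥N => (z : PowerSeries k)) (congrArg f (hcomm x))
    simp only [map_smul, Submodule.coe_smul, smul_eq_mul'] at h
    exact h
  have hW : ∀ (f : ↥K →ₗ[↥A] ↥N) (m : ℕ), coeff m (f κ : PowerSeries k) ≠ 0 →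
      ∀ s, s ∈ P → s + d ∈ P → R ≤ m + s ∧ vexp P e (m + s - R) := by
    intro f m hm s hs hsd
    let x : ↥K := ⟨(⟨-(X ^ s * X ^ d), A.neg_mem (by rw [← pow_add]; exact X_pow_mem A P hmono hsd)⟩,
      ⟨X ^ s, X_pow_mem A P hmono hs⟩), Subtype.ext (by rw [hπv]; simp)⟩
    have h := congrArg (coeff (m + s)) (hval f x)
    rw [show ((x : ↥A × ↥A).2 : PowerSeries k) = X ^ s from rfl, coeff_X_pow_mul, coeff_X_pow_mul'] at h
    split_ifs at h with hle
    · exact ⟨hle, (mem_pair_iff A P hmono e _).1 (f x).2 _ (h ▸ hm)⟩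
    · exact absurd h.symm hm
  let ψ : (↥K →ₗ[↥A] ↥N) →ₗ[k] (ULift.{u} {m // m ∈ D} → k) :=
    { toFun := fun f p => coeff p.down.1 (f κ : PowerSeries k)
      map_add' := fun f g => funext fun p => by simp
      map_smul' := fun c f => funext fun p => by simp }
  have hlen := length_ext_one_sub A (eps A)
    (isUnit_of_mono A P hmono) M N π hπ ψ
  rw [Fintype.card_ulift, Fintype.card_coe] at hlen
  refine hlen ?_ ?_
  · intro v
    let u : PowerSeries k := mk fun m => if h : m ∈ D then v ⟨⟨m, h⟩⟩ else 0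
    have hu : ∀ m, coeff m u ≠ 0 → m ∈ D := fun m hm => by
      simp only [u, coeff_mk] at hm; split_ifs at hm with h
      · exact h
      · exact absurd rfl hm
    let q : PowerSeries k → PowerSeries k := fun g => mk fun j => coeff (j + R) g
    have hq : ∀ g, (∀ j, j < R → coeff j g = 0) → X ^ R * q g = g := fun g hg => by
      ext j
      rw [coeff_X_pow_mul']
      split_ifs with h
      · simp only [q, coeff_mk, Nat.sub_add_cancel h]
      · rw [hg j (not_le.1 h)]
    have hsupp : ∀ (x : ↥K) (j : ℕ), coeff j (((x : ↥A × ↥A).2 : PowerSeries k) * u) ≠ 0 →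
        R ≤ j ∧ vexp P e (j - R) := by
      intro x j hj
      rw [coeff_mul] at hj
      obtain ⟨p, hp, hne⟩ := Finset.exists_ne_zero_of_sum_ne_zero hj
      rw [Finset.HasAntidiagonal.mem_antidiagonal] at hp
      obtain ⟨h1, h2⟩ := ne_zero_and_ne_zero_of_mul hne
      have hs := (hmono _).1 (x : ↥A × ↥A).2.2 _ h1
      have hsd : p.1 + d ∈ P := (hmono _).1 (x : ↥A × ↥A).1.2 _ (by
        rw [hK, neg_mul, map_neg, coeff_mul_X_pow]; exact neg_ne_zero.2 h1)
      have := ((hD _).1 (hu _ h2)).1 p.1 hs hsd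
      rwa [add_comm p.2, hp] at this
    have hqN : ∀ x : ↥K, q (((x : ↥A × ↥A).2 : PowerSeries k) * u) ∈ N := fun x => by
      rw [hN, mem_pair_iff A P hmono]
      intro j hj
      simp only [q, coeff_mk] at hj
      simpa using (hsupp x _ hj).2
    have hz : ∀ x : ↥K, ∀ j, j < R → coeff j (((x : ↥A × ↥A).2 : PowerSeries k) * u) = 0 := fun x j hj => by
      by_contra h; exact absurd (hsupp x j h).1 (not_le.2 hj)
    let f : ↥K →ₗ[↥A] ↥N :=
      { toFun := fun x => ⟨_, hqN x⟩
        map_add' := fun x y => Subtype.ext (mul_left_cancel₀ (pow_ne_zero R X_ne_zero) (by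
          show X ^ R * q (((x + y : ↥K) : ↥A × ↥A).2 * u : PowerSeries k) =
            X ^ R * (q (((x : ↥A × ↥A).2 : PowerSeries k) * u) + q (((y : ↥A × ↥A).2 : PowerSeries k) * u))
          rw [mul_add, hq _ (hz _), hq _ (hz _), hq _ (hz _)]
          simp [add_mul]))
        map_smul' := fun a x => Subtype.ext (mul_left_cancel₀ (pow_ne_zero R X_ne_zero) (by
          show X ^ R * q (((a • x : ↥K) : ↥A × ↥A).2 * u : PowerSeries k) =
            X ^ R * ((a : PowerSeries k) * q (((x : ↥A × ↥A).2 : PowerSeries k) * u))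
          rw [hq _ (hz _), mul_left_comm, hq _ (hz _)]
          simp [mul_assoc])) }
    refine ⟨f, funext fun p => ?_⟩
    show coeff p.down.1 (q (X ^ R * u)) = v p
    have hq' : q (X ^ R * u) = u := by
      ext j; simp [q, coeff_X_pow_mul]
    rw [hq']
    simp [u, p.down.2]
  · intro f
    constructor
    · intro h
      set u := (f κ : PowerSeries k)
      have hu : ∀ m, coeff m u ≠ 0 → R ≤ m ∧ (vexp P e (m - R) ∨ (d ≤ m - R ∧ vexp P e (m - R - d))) := by
        intro m hm
        by_contra hU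
        exact hm (congrFun h ⟨⟨m, (hD m).2 ⟨hW f m hm, hU⟩⟩⟩)
      let y : PowerSeries k := mk fun j => if vexp P e j then coeff (R + j) u else 0
      let x : PowerSeries k := mk fun j => if vexp P e j ∧ ¬ vexp P e (d + j) then -coeff (R + (d + j)) u else 0
      have hy : y ∈ N := by
        rw [hN, mem_pair_iff A P hmono]; intro j hj
        simp only [y, coeff_mk] at hj; split_ifs at hj with h
        · exact h
        · exact absurd rfl hj
      have hx : x ∈ N := by
        rw [hN, mem_pair_iff A P hmono]; intro j hj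
        simp only [x, coeff_mk] at hj; split_ifs at hj with h
        · exact h.1
        · exact absurd rfl hj
      have hux : u = X ^ R * (y - X ^ d * x) := by
        ext m
        rw [coeff_X_pow_mul']
        by_cases hmR : R ≤ m
        · obtain ⟨j, rfl⟩ := Nat.exists_eq_add_of_le hmR
          rw [if_pos hmR, Nat.add_sub_cancel_left, map_sub, coeff_X_pow_mul']
          simp only [y, x, coeff_mk]
          by_cases hv : vexp P e j
          · rw [if_pos hv]
            split_ifs with h1 h2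
            · rw [Nat.add_sub_cancel' h1] at h2; exact absurd hv h2.2
            · rw [sub_zero]
            · rw [sub_zero]
          · rw [if_neg hv]
            by_cases hc : coeff (R + j) u = 0
            · rw [hc]
              split_ifs with h1 h2
              · rw [Nat.add_sub_cancel' h1, hc]; simp
              · simp
              · simp
            · obtain ⟨-, h | ⟨h1, h2⟩⟩ := hu _ hc
              · rw [Nat.add_sub_cancel_left] at h; exact absurd h hv
              · rw [Nat.add_sub_cancel_left] at h1 h2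
                rw [if_pos h1, if_pos ⟨h2, by rwa [Nat.add_sub_cancel' h1]⟩, Nat.add_sub_cancel' h1]
                simp
        · rw [if_neg hmR]
          by_contra hc
          exact hmR (hu m hc).1
      refine ⟨(LinearMap.toSpanSingleton ↥A ↥N ⟨x, hx⟩).coprod (LinearMap.toSpanSingleton ↥A ↥N ⟨y, hy⟩),
        fun z => Subtype.ext (mul_left_cancel₀ (pow_ne_zero R X_ne_zero) ?_)⟩
      rw [hval f z]
      show _ = ((z : ↥A × ↥A).2 : PowerSeries k) * u
      rw [hux]
      simp only [LinearMap.coprod_apply, LinearMap.toSpanSingleton_apply, Submodule.coe_add,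
        Submodule.coe_smul, smul_eq_mul', hK]
      ring
    · rintro ⟨g, hg⟩
      funext p
      show coeff p.down.1 (f κ : PowerSeries k) = 0
      by_contra hne
      refine ((hD _).1 p.down.2).2 ?_
      rw [← hg κ, show (κ : ↥A × ↥A) = (⟨-(X ^ R * X ^ d), _⟩, cR) from rfl] at hne
      set x := g (1, 0)
      set y := g (0, 1)
      have hg' : ∀ a b : ↥A, g (a, b) = a • x + b • y := fun a b => by
        rw [← map_smul, ← map_smul, ← map_add]; simp
      rw [hg', Submodule.coe_add, Submodule.coe_smul, Submodule.coe_smul, smul_eq_mul', smul_eq_mul',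
        map_add, neg_mul, map_neg, mul_assoc, ← mul_assoc, ← pow_add] at hne
      change -coeff p.down.1 (X ^ (R + d) * (x : PowerSeries k)) + coeff p.down.1 (X ^ R * (y : PowerSeries k)) ≠ 0 at hne
      rw [coeff_X_pow_mul', coeff_X_pow_mul'] at hne
      have hx := (mem_pair_iff A P hmono e _).1 x.2
      have hy := (mem_pair_iff A P hmono e _).1 y.2
      by_cases h1 : R ≤ p.down.1
      · refine ⟨h1, ?_⟩
        rw [if_pos h1] at hne
        by_cases h2 : R + d ≤ p.down.1
        · rw [if_pos h2] at hne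
          by_cases h3 : coeff (p.down.1 - R) (y : PowerSeries k) = 0
          · rw [h3, add_zero, neg_ne_zero] at hne
            refine Or.inr ⟨by omega, ?_⟩
            rw [show p.down.1 - R - d = p.down.1 - (R + d) by omega]
            exact hx _ hne
          · exact Or.inl (hy _ h3)
        · rw [if_neg h2, neg_zero, zero_add] at hne
          exact Or.inl (hy _ hne)
      · rw [if_neg h1, if_neg (by omega : ¬ R + d ≤ p.down.1)] at hne
        simp at hne

end TwoGen

section Cubical

variable (n : ℕ) (hn : 1 ≤ n) (hmono : ∀ f : PowerSeries k, f ∈ A ↔ ∀ m : ℕ, coeff m f ≠ 0 → (m = 0 ∨ n ≤ m))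

/-- the semigroup `{0} ∪ [n, ∞)` -/
def cubP : AddSubmonoid ℕ where
  carrier := {m | m = 0 ∨ n ≤ m}
  add_mem' := fun {a b} ha hb => by rcases ha with h | h <;> rcases hb with h' | h' <;> simp only [Set.mem_setOf_eq] <;> omega
  zero_mem' := Or.inl rfl

include hn hmono in
theorem mem_cub_span_iff (G : Finset ℕ) (hG : ∀ g ∈ G, 1 ≤ g ∧ g < n) (f : PowerSeries k) :
    f ∈ Submodule.span ↥A ((fun a : ℕ => (X : PowerSeries k) ^ a) '' ↑(insert 0 G)) ↔
      ∀ m, coeff m f ≠ 0 → (m = 0 ∨ n ≤ m ∨ m ∈ G) := by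
  classical
  constructor
  · intro hf
    induction hf using Submodule.span_induction with
    | mem y hy =>
      obtain ⟨a, ha, rfl⟩ := hy
      intro m hm
      simp only [coeff_X_pow] at hm
      split_ifs at hm with h
      · rcases Finset.mem_insert.1 (Finset.mem_coe.1 ha) with h' | h'
        · exact Or.inl (h.trans h')
        · exact Or.inr (Or.inr (h ▸ h'))
      · exact absurd rfl hm
    | zero => intro m hm; simp at hm
    | add y z _ _ hy hz =>
      intro m hm
      rw [map_add] at hm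
      by_cases h : coeff m y = 0
      · exact hz m (by simpa [h] using hm)
      · exact hy m h
    | smul a y _ hy =>
      intro m hm
      rw [smul_eq_mul', coeff_mul] at hm
      obtain ⟨p, hp, hne⟩ := Finset.exists_ne_zero_of_sum_ne_zero hm
      rw [Finset.HasAntidiagonal.mem_antidiagonal] at hp
      obtain ⟨h1, h2⟩ := ne_zero_and_ne_zero_of_mul hne
      rcases (hmono _).1 a.2 _ h1 with h | h
      · rw [h, zero_add] at hp; exact hp ▸ hy _ h2
      · exact Or.inr (Or.inl (by omega))
  · intro hf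
    have hlow : f - ∑ g ∈ G, monomial g (coeff g f) ∈ A := (hmono _).2 fun m hm => by
      rw [map_sub, map_sum] at hm
      simp only [coeff_monomial, Finset.sum_ite_eq] at hm
      split_ifs at hm with h
      · simp at hm
      · rw [sub_zero] at hm
        rcases hf m hm with h' | h' | h'
        · exact Or.inl h'
        · exact Or.inr h'
        · exact absurd h' h
    rw [← sub_add_cancel f (∑ g ∈ G, monomial g (coeff g f))]
    refine Submodule.add_mem _ ?_ (Submodule.sum_mem _ fun g hg => ?_)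
    · have h1 : (1 : PowerSeries k) ∈ Submodule.span ↥A ((fun a : ℕ => (X : PowerSeries k) ^ a) '' ↑(insert 0 G)) :=
        Submodule.subset_span ⟨0, by simp, pow_zero _⟩
      have := Submodule.smul_mem _ (⟨_, hlow⟩ : ↥A) h1
      rwa [smul_eq_mul', mul_one] at this
    · have hg' : (X : PowerSeries k) ^ g ∈ Submodule.span ↥A ((fun a : ℕ => (X : PowerSeries k) ^ a) '' ↑(insert 0 G)) :=
        Submodule.subset_span ⟨g, by simp [hg], rfl⟩
      have := Submodule.smul_mem _ (algebraMap k ↥A (coeff g f)) hg'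
      rw [smul_eq_mul', Subalgebra.coe_algebraMap, PowerSeries.algebraMap_apply, Algebra.algebraMap_self, RingHom.id_apply] at this
      rwa [monomial_eq_C_mul_X_pow]

include hn hmono in
theorem length_ext_cubical (G : Finset ℕ) (hG : ∀ g ∈ G, 1 ≤ g ∧ g < n) (d : ℕ)
    (hd : ∀ m, d ≤ m → (m = 0 ∨ n ≤ m ∨ m ∈ G))
    (hd' : d = 0 ∨ ¬ (d - 1 = 0 ∨ n ≤ d - 1 ∨ d - 1 ∈ G))
    {ι : Type u} [Fintype ι] (ψ₀ : (↥G → PowerSeries k) →ₗ[k] (ι → k))
    (hsurj : ∀ v, ∃ u : ↥G → PowerSeries k, (∀ g m, coeff m (u g) ≠ 0 → d ≤ m) ∧ ψ₀ u = v)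
    (hker : ∀ u : ↥G → PowerSeries k, (∀ g m, coeff m (u g) ≠ 0 → d ≤ m) → (ψ₀ u = 0 ↔
      ∃ (x₀ : PowerSeries k) (x : ↥G → PowerSeries k),
        (∀ m, coeff m x₀ ≠ 0 → (m = 0 ∨ n ≤ m ∨ m ∈ G)) ∧
        (∀ g m, coeff m (x g) ≠ 0 → (m = 0 ∨ n ≤ m ∨ m ∈ G)) ∧
        ∀ g : ↥G, u g = X ^ n * x g - X ^ (n + g.1) * x₀)) :
    Module.length ↥A (CategoryTheory.Abelian.Ext
      (ModuleCat.of ↥A ↥(Submodule.span ↥A ((fun a : ℕ => (X : PowerSeries k) ^ a) '' ↑(insert 0 G))))
      (ModuleCat.of ↥A ↥(Submodule.span ↥A ((fun a : ℕ => (X : PowerSeries k) ^ a) '' ↑(insert 0 G)))) 1) =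
      (Fintype.card ι : ℕ∞) := by
  classical
  set M := Submodule.span ↥A ((fun a : ℕ => (X : PowerSeries k) ^ a) '' ↑(insert 0 G)) with hM
  have hmem : ∀ {f}, f ∈ M ↔ ∀ m, coeff m f ≠ 0 → (m = 0 ∨ n ≤ m ∨ m ∈ G) := fun {f} =>
    mem_cub_span_iff A n hn hmono G hG f
  have h1M : (1 : PowerSeries k) ∈ M := Submodule.subset_span ⟨0, by simp, pow_zero _⟩
  have hgM : ∀ g : ↥G, (X : PowerSeries k) ^ g.1 ∈ M := fun g => Submodule.subset_span ⟨g.1, by simp, rfl⟩
  let π : (↥A × (↥G → ↥A)) →ₗ[↥A] ↥M :=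
    (LinearMap.toSpanSingleton ↥A ↥M ⟨1, h1M⟩).coprod
      (∑ g : ↥G, (LinearMap.toSpanSingleton ↥A ↥M ⟨_, hgM g⟩).comp (LinearMap.proj g))
  have hπv : ∀ x, (π x : PowerSeries k) = (x.1 : PowerSeries k) + ∑ g : ↥G, (x.2 g : PowerSeries k) * X ^ g.1 :=
    fun x => by simp [π, smul_eq_mul']
  have hπ : Function.Surjective π := by
    intro y
    have h : ∀ z ∈ M, ∃ x, (π x : PowerSeries k) = z := by
      intro z hz
      induction hz using Submodule.span_induction with
      | mem z hz =>
        obtain ⟨a, ha, rfl⟩ := hz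
        rcases Finset.mem_insert.1 (Finset.mem_coe.1 ha) with rfl | ha
        · exact ⟨(1, 0), by rw [hπv]; simp⟩
        · refine ⟨(0, Pi.single ⟨a, ha⟩ 1), ?_⟩
          rw [hπv, Finset.sum_eq_single ⟨a, ha⟩]
          · simp
          · intro g _ hg; simp [Pi.single_eq_of_ne hg]
          · simp
      | zero => exact ⟨0, by simp⟩
      | add a b _ _ ha hb =>
        obtain ⟨x, hx⟩ := ha; obtain ⟨x', hx'⟩ := hb
        exact ⟨x + x', by rw [map_add, Submodule.coe_add, hx, hx']⟩
      | smul c a _ ha =>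
        obtain ⟨x, hx⟩ := ha
        exact ⟨c • x, by rw [map_smul, Submodule.coe_smul, hx]⟩
    obtain ⟨x, hx⟩ := h y y.2
    exact ⟨x, Subtype.ext hx⟩
  let K := LinearMap.ker π
  have hK1 : ∀ x : ↥K, ((x : ↥A × (↥G → ↥A)).1 : PowerSeries k) =
      -∑ g : ↥G, ((x : ↥A × (↥G → ↥A)).2 g : PowerSeries k) * X ^ g.1 := fun x => by
    have h := congrArg (fun z : ↥M => (z : PowerSeries k)) (show π x = 0 from x.2)
    simp only [hπv, ZeroMemClass.coe_zero] at h
    linear_combination h
  have hK2 : ∀ (x : ↥K) (g : ↥G) (j : ℕ), j < n → coeff j ((x : ↥A × (↥G → ↥A)).2 g : PowerSeries k) = 0 := by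
    intro x g j hj
    by_contra hne
    rcases (hmono _).1 ((x : ↥A × (↥G → ↥A)).2 g).2 j hne with rfl | h
    · have h := congrArg (coeff g.1) (hK1 x)
      rw [map_neg, map_sum, Finset.sum_eq_single g] at h
      · have h0 : coeff g.1 ((x : ↥A × (↥G → ↥A)).1 : PowerSeries k) = 0 := by
          by_contra h0
          rcases (hmono _).1 (x : ↥A × (↥G → ↥A)).1.2 _ h0 with h' | h' <;> have := hG g g.2 <;> omega
        rw [h0, coeff_mul_X_pow', if_pos le_rfl, Nat.sub_self] at h
        exact hne (by linear_combination h)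
      · intro g' _ hg'
        rw [coeff_mul_X_pow']
        split_ifs with hle
        · by_contra hne'
          rcases (hmono _).1 ((x : ↥A × (↥G → ↥A)).2 g').2 _ hne' with h' | h'
          · exact hg' (Subtype.ext (by omega))
          · have := hG g g.2; omega
        · rfl
      · simp
    · omega
  let bigA : PowerSeries k → ↥A := fun s => ⟨X ^ n * s, (hmono _).2 fun m hm => Or.inr (by
    by_contra h; exact hm (by rw [coeff_X_pow_mul', if_neg h]))⟩
  let kap : PowerSeries k → ↥G → ↥K := fun s g => ⟨(bigA (-(s * X ^ g.1)), Pi.single g (bigA s)), Subtype.ext (by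
    rw [hπv, Finset.sum_eq_single g]
    · simp [bigA]; ring
    · intro g' _ hg'; simp [Pi.single_eq_of_ne hg']
    · simp)⟩
  have hkap : ∀ s g, bigA 1 • kap s g = bigA s • kap 1 g := fun s g => by
    apply Subtype.ext
    refine Prod.ext (Subtype.ext ?_) (funext fun g' => Subtype.ext ?_)
    · simp [kap, bigA]; ring
    · by_cases h : g' = g
      · subst h; simp [kap, bigA]; ring
      · simp [kap, Pi.single_eq_of_ne h]
  have hXn : (X ^ n : PowerSeries k) ≠ 0 := pow_ne_zero n X_ne_zero
  have hfs : ∀ (f : ↥K →ₗ[↥A] ↥M) s g, (f (kap s g) : PowerSeries k) = s * (f (kap 1 g) : PowerSeries k) := by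
    intro f s g
    refine mul_left_cancel₀ hXn ?_
    have h := congrArg (fun z : ↥M => (z : PowerSeries k)) (congrArg f (hkap s g))
    simp only [map_smul, Submodule.coe_smul, smul_eq_mul'] at h
    simp only [bigA, mul_one] at h
    rw [h]; ring
  let h : ↥K → ↥G → PowerSeries k := fun x g => mk fun j => coeff (j + n) ((x : ↥A × (↥G → ↥A)).2 g : PowerSeries k)
  have hh : ∀ x g, X ^ n * h x g = ((x : ↥A × (↥G → ↥A)).2 g : PowerSeries k) := fun x g => by
    ext j
    rw [coeff_X_pow_mul']
    split_ifs with hj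
    · simp only [h, coeff_mk, Nat.sub_add_cancel hj]
    · rw [hK2 x g j (not_le.1 hj)]
  have hdecomp : ∀ x : ↥K, x = ∑ g : ↥G, kap (h x g) g := fun x => by
    apply Subtype.ext
    refine Prod.ext (Subtype.ext ?_) (funext fun g => Subtype.ext ?_)
    · rw [hK1, Submodule.coe_sum, Prod.fst_sum, AddSubmonoidClass.coe_finsetSum, ← Finset.sum_neg_distrib]
      refine Finset.sum_congr rfl fun g _ => ?_
      simp only [kap, bigA]
      rw [← hh x g]; ring
    · rw [Submodule.coe_sum, Prod.snd_sum, Finset.sum_apply, AddSubmonoidClass.coe_finsetSum,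
        Finset.sum_eq_single g]
      · simp [kap, bigA, hh]
      · intro g' _ hg'; simp [kap, Pi.single_eq_of_ne hg'.symm]
      · simp
  have hord : ∀ (f : ↥K →ₗ[↥A] ↥M) g m, coeff m (f (kap 1 g) : PowerSeries k) ≠ 0 → d ≤ m := by
    intro f g m hm
    by_contra hlt
    have h1 : (f (kap (X ^ (d - 1 - m)) g) : PowerSeries k) ∈ M := (f _).2
    rw [hfs, hmem] at h1
    have h2 := h1 (d - 1) (by rw [coeff_X_pow_mul', if_pos (by omega), show d - 1 - (d - 1 - m) = m by omega]; exact hm)
    exact (hd'.resolve_left (by omega)) h2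
  let U : (↥K →ₗ[↥A] ↥M) →ₗ[k] (↥G → PowerSeries k) :=
    { toFun := fun f g => (f (kap 1 g) : PowerSeries k)
      map_add' := fun f f' => funext fun g => by simp
      map_smul' := fun c f => funext fun g => by simp }
  refine length_ext_one_sub A (eps A)
    (isUnit_of_mono A (cubP n) hmono) M M π hπ (ψ₀ ∘ₗ U) ?_ ?_
  · intro v
    obtain ⟨u, hu, hv⟩ := hsurj v
    have hin : ∀ x, ∑ g : ↥G, h x g * u g ∈ M := fun x => M.sum_mem fun g _ => hmem.2 fun m hm => hd m (by
      rw [coeff_mul] at hm
      obtain ⟨p, hp, hne⟩ := Finset.exists_ne_zero_of_sum_ne_zero hm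
      rw [Finset.HasAntidiagonal.mem_antidiagonal] at hp
      have := hu g _ (ne_zero_and_ne_zero_of_mul hne).2
      omega)
    let f : ↥K →ₗ[↥A] ↥M :=
      { toFun := fun x => ⟨_, hin x⟩
        map_add' := fun x y => Subtype.ext (mul_left_cancel₀ hXn (by
          simp only [Submodule.coe_add, mul_add, Finset.mul_sum, ← mul_assoc, hh, ← Finset.sum_add_distrib]
          simp [add_mul]))
        map_smul' := fun a x => Subtype.ext (mul_left_cancel₀ hXn (by
          simp only [RingHom.id_apply, Submodule.coe_smul, smul_eq_mul', Finset.mul_sum, mul_left_comm (X ^ n : PowerSeries k) (a : PowerSeries k),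
            ← mul_assoc (X ^ n : PowerSeries k), hh]
          simp [mul_assoc])) }
    refine ⟨f, ?_⟩
    rw [LinearMap.comp_apply, show U f = u from funext fun g => ?_]
    · exact hv
    show ∑ g' : ↥G, h (kap 1 g) g' * u g' = u g
    refine mul_left_cancel₀ hXn ?_
    simp only [Finset.mul_sum, ← mul_assoc, hh]
    rw [Finset.sum_eq_single g]
    · simp [kap, bigA]
    · intro g' _ hg'; simp [kap, Pi.single_eq_of_ne hg']
    · simp
  · intro f
    rw [LinearMap.comp_apply, show U f = (fun g => (f (kap 1 g) : PowerSeries k)) from rfl,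
      hker _ (fun g => hord f g)]
    constructor
    · rintro ⟨x₀, x, hx₀, hx, hux⟩
      refine ⟨(LinearMap.toSpanSingleton ↥A ↥M ⟨x₀, hmem.2 hx₀⟩).coprod
        (∑ g : ↥G, (LinearMap.toSpanSingleton ↥A ↥M ⟨x g, hmem.2 (hx g)⟩).comp (LinearMap.proj g)),
        fun z => Subtype.ext ?_⟩
      conv_rhs => rw [hdecomp z, map_sum, AddSubmonoidClass.coe_finsetSum]
      simp only [LinearMap.coprod_apply, LinearMap.coe_sum, Finset.sum_apply, LinearMap.comp_apply,
        LinearMap.proj_apply, LinearMap.toSpanSingleton_apply, Submodule.coe_add, AddSubmonoidClass.coe_finsetSum,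
        Submodule.coe_smul, smul_eq_mul', hK1, hfs _ (h z _)]
      rw [neg_mul, Finset.sum_mul, ← Finset.sum_neg_distrib, ← Finset.sum_add_distrib]
      refine Finset.sum_congr rfl fun g _ => ?_
      rw [show (f (kap 1 g) : PowerSeries k) = X ^ n * x g - X ^ (n + g.1) * x₀ from hux g, ← hh z g]
      ring
    · rintro ⟨g, hg⟩
      refine ⟨(g (1, 0) : PowerSeries k), fun i => (g (0, Pi.single i 1) : PowerSeries k), hmem.1 (g _).2,
        fun i => hmem.1 (g _).2, fun i => ?_⟩
      show (f (kap 1 i) : PowerSeries k) = _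
      rw [← hg]
      have e : ((kap 1 i : ↥K) : ↥A × (↥G → ↥A)) =
          bigA (-(X ^ i.1)) • ((1 : ↥A), (0 : ↥G → ↥A)) + bigA 1 • ((0 : ↥A), Pi.single i (1 : ↥A)) := by
        refine Prod.ext ?_ (funext fun g' => ?_)
        · simp [kap]
        · by_cases hgi : g' = i
          · subst hgi; simp [kap]
          · simp [kap, Pi.single_eq_of_ne hgi]
      rw [e, map_add, map_smul, map_smul]
      simp only [Submodule.coe_add, Submodule.coe_smul, smul_eq_mul', bigA]
      ring

end Cubical

end Groth.Agent.TFCurvSG
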