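import Groth.Agent.TFCurvSG.Canonical
import Mathlib

/-!
# Lengths of `Ext¹` over algebras with residue field `k`
-/

set_option autoImplicit false
set_option maxHeartbeats 800000
universe u

open CategoryTheory

namespace Groth.Agent.TFCurvSG

/-- Over a local `k`-algebra with residue field `k`, the length is the `k`-dimension. -/
theorem length_eq_finrank {k A : Type u} [Field k] [CommRing A] [Algebra k A] (ε : A →ₐ[k] k)
    (hloc : ∀ a : A, ε a ≠ 0 → IsUnit a) (Q : Type u) [AddCommGroup Q] [Module A Q] [Module k Q]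
    [IsScalarTower k A Q] [Module.Finite k Q] :
    Module.length A Q = (Module.finrank k Q : ℕ∞) := by
  induction hd : Module.finrank k Q using Nat.strong_induction_on generalizing Q with
  | h d ih =>
  rcases Nat.eq_zero_or_pos d with rfl | hpos
  · haveI : Subsingleton Q := Module.finrank_zero_iff.1 hd
    rw [Module.length_eq_zero_iff.2 inferInstance]; rfl
  haveI : Nontrivial Q := Module.finrank_pos_iff.1 (hd ▸ hpos)
  classical
  let dim : Q → ℕ := fun v => Module.finrank k ↥((Submodule.span A {v}).restrictScalars k)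
  obtain ⟨v₀, hv₀⟩ := exists_ne (0 : Q)
  have hex : ∃ m, ∃ v : Q, v ≠ 0 ∧ dim v = m := ⟨_, v₀, hv₀, rfl⟩
  obtain ⟨v, hv, hvd⟩ := Nat.find_spec hex
  have hkill : ∀ a : A, ε a = 0 → a • v = 0 := by
    intro a ha
    by_contra hne
    have hle : Submodule.span A {a • v} ≤ Submodule.span A {v} :=
      (Submodule.span_singleton_le_iff_mem _ _).2 (Submodule.smul_mem _ _ (Submodule.mem_span_singleton_self _))
    have heq : (Submodule.span A {a • v}).restrictScalars k = (Submodule.span A {v}).restrictScalars k := by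
      refine Submodule.eq_of_le_of_finrank_le hle ?_
      show dim v ≤ dim (a • v)
      rw [hvd]; exact Nat.find_min' hex ⟨_, hne, rfl⟩
    have hmem : v ∈ Submodule.span A {a • v} := by
      have : v ∈ (Submodule.span A {v}).restrictScalars k := Submodule.mem_span_singleton_self v
      rw [← heq] at this; exact this
    obtain ⟨b, hb⟩ := Submodule.mem_span_singleton.1 hmem
    have h1 : (1 - b * a) • v = 0 := by rw [sub_smul, one_smul, mul_smul, hb, sub_self]
    have h2 := hloc (1 - b * a) (by simp [ha])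
    exact hv (h2.smul_eq_zero.1 h1)
  set L := Submodule.span A {v}
  have hL : L.restrictScalars k = Submodule.span k {v} := by
    refine le_antisymm ?_ ((Submodule.span_singleton_le_iff_mem _ _).2 (Submodule.mem_span_singleton_self v))
    intro x hx
    obtain ⟨a, rfl⟩ := Submodule.mem_span_singleton.1 hx
    refine Submodule.mem_span_singleton.2 ⟨ε a, ?_⟩
    have h := hkill (a - algebraMap k A (ε a)) (by simp)
    rw [sub_smul, algebraMap_smul, sub_eq_zero] at h
    exact h.symm
  have hL1 : Module.length A ↥L = 1 := by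
    rw [Module.length_eq_one_iff]
    refine isSimpleModule_iff_toSpanSingleton_surjective.2 ⟨⟨⟨v, Submodule.mem_span_singleton_self v⟩, 0,
      fun h => hv (congrArg Subtype.val h)⟩, fun x hx y => ?_⟩
    obtain ⟨cx, hcx⟩ := Submodule.mem_span_singleton.1 (hL ▸ x.2 : (x : Q) ∈ Submodule.span k {v})
    obtain ⟨cy, hcy⟩ := Submodule.mem_span_singleton.1 (hL ▸ y.2 : (y : Q) ∈ Submodule.span k {v})
    have hc0 : cx ≠ 0 := by rintro rfl; exact hx (Subtype.ext (by simp [← hcx]))
    refine ⟨algebraMap k A (cy * cx⁻¹), Subtype.ext ?_⟩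
    simp only [LinearMap.toSpanSingleton_apply, Submodule.coe_smul, algebraMap_smul]
    rw [Submodule.coe_smul_of_tower, ← hcy, ← hcx, smul_smul, mul_assoc, inv_mul_cancel₀ hc0, mul_one]
  haveI : Module.Finite k (Q ⧸ L) :=
    Module.Finite.of_surjective (L.mkQ.restrictScalars k) L.mkQ_surjective
  have hdim : Module.finrank k (Q ⧸ L) + 1 = d := by
    have h1 := Submodule.finrank_quotient_add_finrank (L.restrictScalars k)
    rw [(Submodule.Quotient.restrictScalarsEquiv k L).finrank_eq, hL, finrank_span_singleton hv, hd] at h1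
    exact h1
  rw [Module.length_eq_add_of_exact L.subtype L.mkQ L.injective_subtype L.mkQ_surjective
    (LinearMap.exact_subtype_mkQ L), hL1, ih _ (by omega) (Q ⧸ L) rfl, ← hdim]
  push_cast
  rw [add_comm]

/-- `Ext¹` from a presentation with free middle term. -/
theorem length_ext_one {k A : Type u} [Field k] [CommRing A] [Algebra k A] (ε : A →ₐ[k] k)
    (hloc : ∀ a : A, ε a ≠ 0 → IsUnit a)
    {F M N : Type u} [AddCommGroup F] [Module A F] [Module.Free A F] [AddCommGroup M] [Module A M]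
    [AddCommGroup N] [Module A N] [Module k N] [IsScalarTower k A N] (π : F →ₗ[A] M) (hπ : Function.Surjective π)
    {ι : Type u} [Fintype ι] (ψ : (↥(LinearMap.ker π) →ₗ[A] N) →ₗ[k] (ι → k))
    (hψ : Function.Surjective ψ)
    (hker : ∀ f, ψ f = 0 ↔ ∃ g : F →ₗ[A] N, ∀ x : ↥(LinearMap.ker π), g x = f x) :
    Module.length A (Abelian.Ext (ModuleCat.of A M) (ModuleCat.of A N) 1) = (Fintype.card ι : ℕ∞) := by
  let K := LinearMap.ker π
  let S := ShortComplex.mk (ModuleCat.ofHom K.subtype) (ModuleCat.ofHom π) (by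
    ext x; exact x.2)
  have hS : S.ShortExact :=
    { exact := by
        rw [ShortComplex.moduleCat_exact_iff_range_eq_ker]
        show LinearMap.range K.subtype = LinearMap.ker π
        rw [Submodule.range_subtype]
      mono_f := (ModuleCat.mono_iff_injective _).2 K.injective_subtype
      epi_g := (ModuleCat.epi_iff_surjective _).2 hπ }
  haveI : Module.Projective A F := Module.Projective.of_free
  haveI : Projective S.X₂ := ModuleCat.projective_of_free (Module.Free.chooseBasis A F)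
  let toExt : (↥K →ₗ[A] N) →ₗ[A] Abelian.Ext (ModuleCat.of A ↥K) (ModuleCat.of A N) 0 :=
    { toFun := fun f => Abelian.Ext.mk₀ (ModuleCat.ofHom f)
      map_add' := fun f g => by rw [← Abelian.Ext.mk₀_add]; rfl
      map_smul' := fun a f => by rw [RingHom.id_apply, ← Abelian.Ext.mk₀_smul]; rfl }
  let Φ : (↥K →ₗ[A] N) →ₗ[A] Abelian.Ext (ModuleCat.of A M) (ModuleCat.of A N) 1 :=
    (Abelian.Ext.bilinearCompOfLinear A _ _ _ 1 0 1 rfl hS.extClass) ∘ₗ toExt
  have hΦ : Function.Surjective Φ := fun x => by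
    obtain ⟨x₁, hx₁⟩ := Abelian.Ext.contravariant_sequence_exact₃ hS (ModuleCat.of A N) x
      (Abelian.Ext.eq_zero_of_projective _) (n₀ := 0) rfl
    obtain ⟨f, rfl⟩ := (Abelian.Ext.mk₀_bijective _ _).2 x₁
    exact ⟨f.hom, hx₁⟩
  have hΦk : ∀ f, Φ f = 0 ↔ ψ f = 0 := fun f => by
    rw [hker]
    constructor
    · intro h
      obtain ⟨x₂, hx₂⟩ := Abelian.Ext.contravariant_sequence_exact₁ hS (ModuleCat.of A N)
        (Abelian.Ext.mk₀ (ModuleCat.ofHom f)) (n₁ := 1) rfl h
      obtain ⟨g, rfl⟩ := (Abelian.Ext.mk₀_bijective _ _).2 x₂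
      rw [Abelian.Ext.mk₀_comp_mk₀] at hx₂
      have := (Abelian.Ext.mk₀_bijective _ _).1 hx₂
      exact ⟨g.hom, fun x => LinearMap.congr_fun (congrArg ModuleCat.Hom.hom this) x⟩
    · rintro ⟨g, hg⟩
      have hfg : ModuleCat.ofHom f = S.f ≫ ModuleCat.ofHom g := by
        ext x; exact (hg x).symm
      show hS.extClass.comp (Abelian.Ext.mk₀ (ModuleCat.ofHom f)) rfl = 0
      rw [hfg, ← Abelian.Ext.mk₀_comp_mk₀]
      exact hS.extClass_comp_assoc _
  let I := LinearMap.ker Φ
  let e : ((↥K →ₗ[A] N) ⧸ I) ≃ₗ[A] Abelian.Ext (ModuleCat.of A M) (ModuleCat.of A N) 1 :=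
    LinearMap.quotKerEquivOfSurjective Φ hΦ
  have hI : I.restrictScalars k = LinearMap.ker ψ := by
    ext f; exact hΦk f
  let e' : ((↥K →ₗ[A] N) ⧸ I) ≃ₗ[k] (ι → k) :=
    ((Submodule.Quotient.restrictScalarsEquiv k I).symm.trans (Submodule.quotEquivOfEq _ _ hI)).trans
      (LinearMap.quotKerEquivOfSurjective ψ hψ)
  haveI : Module.Finite k ((↥K →ₗ[A] N) ⧸ I) := Module.Finite.equiv e'.symm
  rw [← e.length_eq, length_eq_finrank ε hloc, e'.finrank_eq, Module.finrank_pi]

/-- `length_ext_one` for a subalgebra of an abstract ring, so that instances match syntactically. -/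
theorem length_ext_one_sub {k S : Type u} [Field k] [CommRing S] [Algebra k S] (A : Subalgebra k S)
    (ε : ↥A →ₐ[k] k) (hloc : ∀ a : ↥A, ε a ≠ 0 → IsUnit a)
    {F : Type u} [AddCommGroup F] [Module ↥A F] [Module.Free ↥A F] (M N : Submodule ↥A S)
    (π : F →ₗ[↥A] ↥M) (hπ : Function.Surjective π)
    {ι : Type u} [Fintype ι] (ψ : (↥(LinearMap.ker π) →ₗ[↥A] ↥N) →ₗ[k] (ι → k))
    (hψ : Function.Surjective ψ)
    (hker : ∀ f, ψ f = 0 ↔ ∃ g : F →ₗ[↥A] ↥N, ∀ x : ↥(LinearMap.ker π), g x = f x) :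
    Module.length ↥A (Abelian.Ext (ModuleCat.of ↥A ↥M) (ModuleCat.of ↥A ↥N) 1) = (Fintype.card ι : ℕ∞) :=
  length_ext_one ε hloc π hπ ψ hψ hker

end Groth.Agent.TFCurvSG

namespace Groth.Agent.TFCurvSG

/-- `Ext¹` is functorial in isomorphisms, linearly. -/
noncomputable def extLinearEquiv (A : Type u) [CommRing A] {X X' Y Y' : ModuleCat.{u} A} (i : X ≅ X') (j : Y ≅ Y') :
    Abelian.Ext X Y 1 ≃ₗ[A] Abelian.Ext X' Y' 1 where
  toFun α := (Abelian.Ext.mk₀ i.inv).comp (α.comp (Abelian.Ext.mk₀ j.hom) (add_zero 1)) (zero_add 1)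
  invFun β := (Abelian.Ext.mk₀ i.hom).comp (β.comp (Abelian.Ext.mk₀ j.inv) (add_zero 1)) (zero_add 1)
  map_add' a b := by simp
  map_smul' r a := by simp
  left_inv α := by simp
  right_inv β := by simp

/-- Length of a quotient read off a linear map to `k^ι`. -/
theorem length_quot {k A : Type u} [Field k] [CommRing A] [Algebra k A] (ε : A →ₐ[k] k)
    (hloc : ∀ a : A, ε a ≠ 0 → IsUnit a) (T : Type u) [AddCommGroup T] [Module A T] [Module k T]
    [IsScalarTower k A T] (I : Submodule A T) {ι : Type u} [Fintype ι] (ψ : T →ₗ[k] (ι → k))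
    (hψ : Function.Surjective ψ) (hker : ∀ t, t ∈ I ↔ ψ t = 0) :
    Module.length A (T ⧸ I) = (Fintype.card ι : ℕ∞) := by
  have hI : I.restrictScalars k = LinearMap.ker ψ := by
    ext t; exact hker t
  let e' : (T ⧸ I) ≃ₗ[k] (ι → k) :=
    ((Submodule.Quotient.restrictScalarsEquiv k I).symm.trans (Submodule.quotEquivOfEq _ _ hI)).trans
      (LinearMap.quotKerEquivOfSurjective ψ hψ)
  haveI : Module.Finite k (T ⧸ I) := Module.Finite.equiv e'.symm
  rw [length_eq_finrank ε hloc, e'.finrank_eq, Module.finrank_pi]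

end Groth.Agent.TFCurvSG
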